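import Mathlib.AlgebraicGeometry.Morphisms.LocalFlatDescent
import Mathlib.AlgebraicGeometry.Morphisms.FlatDescent
import Mathlib.AlgebraicGeometry.Morphisms.Proper
import Mathlib.AlgebraicGeometry.Morphisms.Finite
import Groth.Agent.Lib.Flat55.FlatDescend
import Groth.Agent.Lib.Tori.AffineDescent

/-!
Standard properties descending along faithfully flat quasi-compact morphisms.
-/

set_option autoImplicit false
set_option backward.isDefEq.respectTransparency false
set_option backward.isDefEq.respectTransparency.types false

universe u

open CategoryTheory CategoryTheory.Limits AlgebraicGeometry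

namespace Groth.Agent.Lib.DescAlg.Descends

instance descends_isAffineHom :
    MorphismProperty.DescendsAlong (@IsAffineHom.{u}) (@Surjective ⊓ @Flat ⊓ @QuasiCompact) :=
  Groth.Agent.Lib.Tori.AffineDescent.descendsAlong_isAffineHom

instance descends_quasiCompact :
    MorphismProperty.DescendsAlong @QuasiCompact.{u} (@Surjective ⊓ @Flat ⊓ @QuasiCompact) := by
  have : MorphismProperty.RespectsIso @QuasiCompact.{u} :=
    MorphismProperty.IsStableUnderBaseChange.respectsIso
  refine MorphismProperty.DescendsAlong.mk' fun {X Y Z} f g _ hf hfst ↦ ⟨fun U hU hUc ↦ ?_⟩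
  have := hf.1.1
  have := hf.2
  have e : g ⁻¹' U = pullback.snd f g '' (pullback.fst f g ⁻¹' (f ⁻¹' U)) := by
    ext y
    constructor
    · intro hy
      obtain ⟨x, hx⟩ := f.surjective (g y)
      obtain ⟨z, hz1, hz2⟩ := Scheme.Pullback.exists_preimage_pullback x y hx
      exact ⟨z, by simpa [hz1, hx] using hy, hz2⟩
    · rintro ⟨z, hz, rfl⟩
      have : f (pullback.fst f g z) = g (pullback.snd f g z) := by
        rw [← Scheme.Hom.comp_apply, ← Scheme.Hom.comp_apply, pullback.condition]
      simpa [this] using hz
  rw [e]
  exact ((hfst.isCompact_preimage _ (hU.preimage f.continuous)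
    (QuasiCompact.isCompact_preimage _ hU hUc))).image (pullback.snd f g).continuous

instance descends_flat :
    MorphismProperty.DescendsAlong @Flat.{u} (@Surjective ⊓ @Flat ⊓ @QuasiCompact) := by
  refine MorphismProperty.DescendsAlong.mk' fun {X Y Z} f g _ hf hfst ↦ ?_
  have := hf.1.1
  have := hf.1.2
  have : Flat (pullback.snd f g ≫ g) := by
    rw [← pullback.condition]
    infer_instance
  exact Groth.Agent.Lib.Flat55.FlatDescend.flat_of_comp (pullback.snd f g) g

instance descends_isIntegralHom :
    MorphismProperty.DescendsAlong @IsIntegralHom.{u} (@Surjective ⊓ @Flat ⊓ @QuasiCompact) :=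
  IsIntegralHom.eq_universallyClosed_inf_isAffineHom.{u} ▸ inferInstance

instance descends_isFinite :
    MorphismProperty.DescendsAlong @IsFinite.{u} (@Surjective ⊓ @Flat ⊓ @QuasiCompact) :=
  IsFinite.eq_inf.{u} ▸ inferInstance

instance descends_mono :
    (MorphismProperty.monomorphisms Scheme.{u}).DescendsAlong
      (@Surjective ⊓ @Flat ⊓ @QuasiCompact) := by
  rw [← MorphismProperty.diagonal_isomorphisms]
  infer_instance

instance descends_isClosedImmersion :
    MorphismProperty.DescendsAlong @IsClosedImmersion.{u}
      (@Surjective ⊓ @Flat ⊓ @QuasiCompact) := by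
  rw [IsClosedImmersion.eq_isFinite_inf_mono]
  infer_instance

instance descends_isSeparated :
    MorphismProperty.DescendsAlong @IsSeparated.{u} (@Surjective ⊓ @Flat ⊓ @QuasiCompact) := by
  rw [IsSeparated.isSeparated_eq_diagonal_isClosedImmersion]
  infer_instance

instance descends_isProper :
    MorphismProperty.DescendsAlong @IsProper.{u} (@Surjective ⊓ @Flat ⊓ @QuasiCompact) := by
  rw [isProper_eq]
  infer_instance

end Groth.Agent.Lib.DescAlg.Descends
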