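import Mathlib.AlgebraicGeometry.Sites.Fpqc
import Mathlib.AlgebraicGeometry.Morphisms.Descent
import Mathlib.CategoryTheory.MorphismProperty.Descent
import Mathlib.AlgebraicGeometry.Morphisms.Flat

/-!
Affine refinements of fpqc covers and the principle "Zariski local + descends along fpqc morphisms
implies fpqc local on the target".
-/

set_option autoImplicit false
set_option backward.isDefEq.respectTransparency false
set_option backward.isDefEq.respectTransparency.types false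

universe u v

open CategoryTheory CategoryTheory.Limits AlgebraicGeometry

namespace Groth.Agent.Lib.DescAlg.FpqcCover

/-- Over an affine open, a quasi-compact flat cover is refined by a single faithfully flat morphism
from a finite coproduct of affine schemes mapping to the members by open immersion followed by
base change. -/
theorem exists_refinement {Y W : Scheme.{u}} (𝒰 : PreZeroHypercover.{v} Y) [QuasiCompactCover 𝒰]
    (hflat : ∀ i, Flat (𝒰.f i)) (j : W ⟶ Y) [IsOpenImmersion j] [IsAffine W] :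
    ∃ (n : ℕ) (Z : Fin n → Scheme.{u}) (a : Fin n → 𝒰.I₀) (t : ∐ Z ⟶ W)
      (l : ∀ k, Z k ⟶ 𝒰.X (a k)),
      IsAffine (∐ Z) ∧ Flat t ∧ Surjective t ∧ QuasiCompact t ∧ (∀ k, IsOpenImmersion (l k)) ∧
      (∀ k, Sigma.ι Z k ≫ t ≫ j = l k ≫ 𝒰.f (a k)) := by
  obtain ⟨n, a, V, hV, hcov⟩ := QuasiCompactCover.exists_isAffineOpen_of_isCompact
    (𝒰.pullback₁ j) (U := (⊤ : W.Opens)) (by simpa using (isCompact_univ : IsCompact (Set.univ : Set W)))
  let Z : Fin n → Scheme.{u} := fun k ↦ ((V k : ((𝒰.pullback₁ j).X (a k)).Opens) : Scheme.{u})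
  have hZ : ∀ k, IsAffine (Z k) := fun k ↦ hV k
  let t : ∐ Z ⟶ W := Sigma.desc fun k ↦ (V k).ι ≫ (𝒰.pullback₁ j).f (a k)
  let l : ∀ k, Z k ⟶ 𝒰.X (a k) := fun k ↦ (V k).ι ≫ pullback.snd j (𝒰.f (a k))
  have hA : IsAffine (∐ Z) := inferInstance
  refine ⟨n, Z, a, t, l, hA, ?_, ?_, inferInstance, fun k ↦ inferInstanceAs (IsOpenImmersion (_ ≫ _)),
    fun k ↦ ?_⟩
  · refine IsZariskiLocalAtSource.sigmaDesc (P := @Flat) fun k ↦ ?_
    have := hflat (a k)
    exact inferInstanceAs (Flat ((V k).ι ≫ pullback.fst j (𝒰.f (a k))))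
  · refine ⟨fun w ↦ ?_⟩
    have hw : w ∈ ⋃ k, (𝒰.pullback₁ j).f (a k) '' (V k : Set ((𝒰.pullback₁ j).X (a k))) := by
      rw [hcov]; trivial
    obtain ⟨k, x, hx, rfl⟩ := Set.mem_iUnion.1 hw
    refine ⟨Sigma.ι Z k ⟨x, hx⟩, ?_⟩
    refine (Scheme.Hom.comp_apply (Sigma.ι Z k) t ⟨x, hx⟩).symm.trans ?_
    simp only [t, Sigma.ι_desc]
    rfl
  · simp only [t, l, Sigma.ι_desc_assoc, Category.assoc]
    exact congrArg ((V k).ι ≫ ·) pullback.condition

theorem snd_iff (P : MorphismProperty Scheme.{u}) [P.RespectsIso] {X Y Y' Y'' : Scheme.{u}}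
    (f : X ⟶ Y) (g : Y' ⟶ Y) (g' : Y'' ⟶ Y') :
    P (pullback.snd (pullback.snd f g) g') ↔ P (pullback.snd f (g' ≫ g)) := by
  rw [← pullbackLeftPullbackSndIso_hom_snd f g g', P.cancel_left_of_respectsIso]

/-- A property which is Zariski local at the target and descends along faithfully flat
quasi-compact morphisms can be checked on an fpqc cover of the target. -/
theorem of_fpqcCover (P : MorphismProperty Scheme.{u}) [IsZariskiLocalAtTarget P]
    (hP : P.DescendsAlong (@Surjective ⊓ @Flat ⊓ @QuasiCompact : MorphismProperty Scheme.{u}))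
    {X Y : Scheme.{u}} (f : X ⟶ Y) (𝒰 : PreZeroHypercover.{v} Y) [QuasiCompactCover 𝒰]
    (hflat : ∀ i, Flat (𝒰.f i)) (h : ∀ i, P (pullback.snd f (𝒰.f i))) : P f := by
  refine IsZariskiLocalAtTarget.of_openCover (P := P) Y.affineCover fun w ↦ ?_
  obtain ⟨n, Z, a, t, l, hA, hf, hs, hqc, hl, hcomp⟩ :=
    exists_refinement 𝒰 hflat (Y.affineCover.f w)
  show P (pullback.snd f (Y.affineCover.f w))
  refine P.of_pullback_snd_of_descendsAlong (Q := @Surjective ⊓ @Flat ⊓ @QuasiCompact)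
    (g := t) ⟨⟨hs, hf⟩, hqc⟩ ?_
  rw [snd_iff P]
  refine IsZariskiLocalAtTarget.of_openCover (P := P) (sigmaOpenCover Z) fun k ↦ ?_
  show P (pullback.snd (pullback.snd f (t ≫ Y.affineCover.f w)) (Sigma.ι Z k))
  rw [snd_iff P, hcomp k, ← snd_iff P]
  have := hl k
  exact IsZariskiLocalAtTarget.of_isPullback (IsPullback.of_hasPullback _ (l k)) (h (a k))

/-- Openness can be tested on an fpqc cover. -/
theorem isOpen_of_preimage {Y : Scheme.{u}} (𝒰 : PreZeroHypercover.{v} Y) [QuasiCompactCover 𝒰]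
    (hflat : ∀ i, Flat (𝒰.f i)) (s : Set Y) (h : ∀ i, IsOpen (𝒰.f i ⁻¹' s)) : IsOpen s := by
  rw [Y.affineCover.isOpenCover_opensRange.isOpen_iff_inter]
  intro w
  obtain ⟨n, Z, a, t, l, hA, hf, hs, hqc, hl, hcomp⟩ :=
    exists_refinement 𝒰 hflat (Y.affineCover.f w)
  rw [Scheme.Hom.coe_opensRange, ← Set.image_preimage_eq_inter_range]
  refine (Y.affineCover.f w).isOpenEmbedding.isOpenMap _ ?_
  rw [← (Flat.isQuotientMap_of_surjective t).isOpen_preimage]
  rw [isOpen_sigma_iff' Z]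
  intro k
  rw [← Set.preimage_comp, ← Set.preimage_comp]
  have e : (fun x ↦ Y.affineCover.f w (t (Sigma.ι Z k x))) = fun x ↦ 𝒰.f (a k) (l k x) := by
    funext x
    exact congr($(hcomp k) x)
  show IsOpen ((fun x ↦ Y.affineCover.f w (t (Sigma.ι Z k x))) ⁻¹' s)
  rw [e]
  exact (h (a k)).preimage (l k).continuous
where
  isOpen_sigma_iff' {n : ℕ} (Z : Fin n → Scheme.{u}) {s : Set ↥(∐ Z)} :
      IsOpen s ↔ ∀ k, IsOpen (Sigma.ι Z k ⁻¹' s) := by
    refine ⟨fun h k ↦ h.preimage (Scheme.Hom.continuous _), fun h ↦ ?_⟩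
    rw [(sigmaOpenCover Z).isOpenCover_opensRange.isOpen_iff_inter]
    intro k
    rw [Scheme.Hom.coe_opensRange, ← Set.image_preimage_eq_inter_range]
    exact ((sigmaOpenCover Z).f k).isOpenEmbedding.isOpenMap _ (h k)

end Groth.Agent.Lib.DescAlg.FpqcCover
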