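import Groth.Agent.Lib.Flat55.QCohFP
import Groth.Agent.H30.ModThick
import Groth.Agent.H56.RelFP.Core
import Groth.Agent.Lib.Kaehler.LocalPres
import Groth.Agent.Lib.QCoh.Pushforward
import Groth.Agent.Lib.QCoh.Tilde
import Mathlib.RingTheory.LocalProperties.FinitePresentation
import Mathlib.RingTheory.Finiteness.ModuleFinitePresentation
import Mathlib.AlgebraicGeometry.Morphisms.Finite
import Mathlib.AlgebraicGeometry.Morphisms.FinitePresentation

/-! Finitely presented quasi-coherent modules: sections on every affine open; finite pushforward. -/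

set_option autoImplicit false
set_option backward.isDefEq.respectTransparency false
set_option linter.style.haveILetI false

universe u

open CategoryTheory Limits AlgebraicGeometry Opposite TopologicalSpace
open Groth.Agent.Lib Groth.Agent.Lib.QCoh.Localizing Groth.Agent.Lib.QCoh.Tilde

namespace Groth.Agent.Lib.DescAlg.FPPush

variable {X : Scheme.{u}}

/-- Global sections of a finitely presented module on an affine scheme. -/
theorem finitePresentation_sections {V : X.Opens} (hX : IsAffineOpen V) (M : X.Modules) [M.IsQuasicoherent]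
    (hM : CohB1.IsFP M) : Module.FinitePresentation Γ(X, V) Γ(M, V) := by
  haveI : SheafOfModules.IsFinitePresentation (R := X.ringCatSheaf) M := hM
  let s : Set Γ(X, V) := {f | Module.FinitePresentation Γ(X, X.basicOpen f) Γ(M, X.basicOpen f)}
  have hs : Ideal.span s = ⊤ := by
    refine (IsAffineOpen.iSup_basicOpen_eq_self_iff hX (s := s)).mp
      (le_antisymm (iSup_le fun g ↦ X.basicOpen_le g.1) fun x hxV ↦ ?_)
    obtain ⟨U, hU, hxU, hUV, hfp⟩ := Flat55.QCohFP.exists_affine_le M x V hxV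
    obtain ⟨f, hfU, hxf⟩ := hX.exists_basicOpen_le (⟨x, hxU⟩ : U) hxV
    have h := Flat55.QCohFP.finitePresentation_basicOpen M hU
      (X.presheaf.map (homOfLE hUV).op f)
    have e : X.basicOpen (X.presheaf.map (homOfLE hUV).op f) = X.basicOpen f := by
      rw [Scheme.basicOpen_res]
      exact inf_eq_right.2 hfU
    rw [e] at h
    exact Opens.mem_iSup.2 ⟨⟨f, h⟩, hxf⟩
  let : ∀ g : s, Algebra Γ(X, V) Γ(X, X.basicOpen g.1) :=
    fun g ↦ (resR (X.basicOpen_le g.1)).toAlgebra
  let : ∀ g : s, Module Γ(X, V) Γ(M, X.basicOpen g.1) :=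
    fun g ↦ Module.compHom _ (resR (X.basicOpen_le g.1))
  have : ∀ g : s, IsScalarTower Γ(X, V) Γ(X, X.basicOpen g.1) Γ(M, X.basicOpen g.1) :=
    fun g ↦ IsScalarTower.of_algebraMap_smul fun _ _ ↦ rfl
  have : ∀ g : s, IsLocalization.Away g.1 Γ(X, X.basicOpen g.1) :=
    fun g ↦ hX.isLocalization_basicOpen g.1
  let l : ∀ g : s, Γ(M, V) →ₗ[Γ(X, V)] Γ(M, X.basicOpen g.1) := fun g ↦
    { toFun := res M (X.basicOpen_le g.1)
      map_add' := map_add _
      map_smul' := fun r m ↦ res_smul (X.basicOpen_le g.1) r m }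
  have : ∀ g : s, IsLocalizedModule (Submonoid.powers g.1) (l g) := fun g ↦ by
    refine ⟨fun t ↦ ?_, fun y ↦ ?_, fun {a b} h ↦ ?_⟩
    · rw [Module.End.isUnit_iff]
      exact (IsLocalization.map_units Γ(X, X.basicOpen g.1) t).smul_bijective
    · obtain ⟨n, t, ht⟩ := (localizes_of_isAffineOpen M hX g.1).ext' y
      refine ⟨⟨t, ⟨g.1 ^ n, n, rfl⟩⟩, ?_⟩
      refine Eq.trans ?_ ht.symm
      change resR (X.basicOpen_le g.1) (g.1 ^ n) • y = _
      rw [map_pow]
    · obtain ⟨n, hn⟩ := (localizes_of_isAffineOpen M hX g.1).sep.exists_pow_smul_eq h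
      exact ⟨⟨g.1 ^ n, n, rfl⟩, hn⟩
  exact Module.FinitePresentation.of_localizationSpan' s hs l fun g ↦ g.2

/-- Global sections of a module as sections on the spectrum. -/
theorem exists_specΓ_equiv {V : X.Opens} (hX : IsAffineOpen V) (F : X.Modules) :
    Nonempty ((specΓ Γ(X, V)).obj (F.restrict hX.fromSpec) ≅
      ModuleCat.of Γ(X, V) Γ(F, V)) := by
  have e : hX.fromSpec ''ᵁ ⊤ = V := by
    rw [Scheme.Hom.image_top_eq_opensRange, hX.opensRange_fromSpec]
  refine ⟨LinearEquiv.toModuleIso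
    (X₁ := (specΓ Γ(X, V)).obj (F.restrict hX.fromSpec))
    { toFun := fun z ↦ F.presheaf.map (eqToHom e.symm).op (z : Γ(F, hX.fromSpec ''ᵁ ⊤))
      invFun := fun z ↦ (F.presheaf.map (eqToHom e).op z :)
      left_inv := fun z ↦ ?_
      right_inv := fun z ↦ ?_
      map_add' := fun a b ↦ map_add (F.presheaf.map (eqToHom e.symm).op).hom a b
      map_smul' := fun r z ↦ ?_ }⟩
  · refine Eq.trans ?_ (congrArg (fun c : Γ(X, V) ↦
      c • F.presheaf.map (eqToHom e.symm).op (z : Γ(F, hX.fromSpec ''ᵁ ⊤)))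
        (H30.ModThick.fromSpec_smul_eq hX e r))
    exact F.map_smul _ _ _
  · simp [← AddCommGrpCat.comp_apply, ← Functor.map_comp]
  · simp [← AddCommGrpCat.comp_apply, ← Functor.map_comp]

theorem isFP_of_sections (M : X.Modules) [M.IsQuasicoherent]
    (h : ∀ x : X, ∃ U : X.Opens, IsAffineOpen U ∧ x ∈ U ∧
      Module.FinitePresentation Γ(X, U) Γ(M, U)) : CohB1.IsFP M := by
  refine Kaehler.LocalPres.isFP_of_cover fun x => ?_
  obtain ⟨U, hU, hxU, hfp⟩ := h x
  obtain ⟨e⟩ := exists_specΓ_equiv hU M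
  exact ⟨U, hU, hxU, _, hfp, ⟨(QCoh.Tilde.isoTildeSections _).symm ≪≫
    (tilde.functor _).mapIso e⟩⟩

theorem isFP_pushforward_iff {Y : Scheme.{u}} (f : X ⟶ Y) [IsFinite f]
    [LocallyOfFinitePresentation f] (F : X.Modules) [F.IsQuasicoherent] :
    CohB1.IsFP F ↔ CohB1.IsFP ((Scheme.Modules.pushforward f).obj F) := by
  have hq : ((Scheme.Modules.pushforward f).obj F).IsQuasicoherent :=
    QCoh.Pushforward.isQCoh_pushforward f
  have key : ∀ (V : Y.Opens), IsAffineOpen V →
      (Module.FinitePresentation Γ(X, f ⁻¹ᵁ V) Γ(F, f ⁻¹ᵁ V) ↔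
        Module.FinitePresentation Γ(Y, V) Γ((Scheme.Modules.pushforward f).obj F, V)) := by
    intro V hV
    letI : Algebra Γ(Y, V) Γ(X, f ⁻¹ᵁ V) := (f.app V).hom.toAlgebra
    letI : Module Γ(X, f ⁻¹ᵁ V) Γ((Scheme.Modules.pushforward f).obj F, V) :=
      inferInstanceAs (Module Γ(X, f ⁻¹ᵁ V) Γ(F, f ⁻¹ᵁ V))
    haveI : IsScalarTower Γ(Y, V) Γ(X, f ⁻¹ᵁ V) Γ((Scheme.Modules.pushforward f).obj F, V) :=
      IsScalarTower.of_algebraMap_smul fun _ _ => rfl
    haveI : Module.Finite Γ(Y, V) Γ(X, f ⁻¹ᵁ V) := f.finite_app V hV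
    haveI : Algebra.FinitePresentation Γ(Y, V) Γ(X, f ⁻¹ᵁ V) := by
      have := f.finitePresentation_appLE hV (hV.preimage f) le_rfl
      rwa [Scheme.Hom.appLE_eq_app] at this
    haveI : Module.FinitePresentation Γ(Y, V) Γ(X, f ⁻¹ᵁ V) :=
      Module.FinitePresentation.of_finite_of_finitePresentation _ _
    constructor
    · intro h
      haveI : Module.FinitePresentation Γ(X, f ⁻¹ᵁ V)
          Γ((Scheme.Modules.pushforward f).obj F, V) := h
      exact Module.FinitePresentation.trans Γ(Y, V) _ Γ(X, f ⁻¹ᵁ V)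
    · intro h
      have := H56.RelFP.Core.fp_of_fp_finite (A := Γ(Y, V)) (B := Γ(X, f ⁻¹ᵁ V))
        Γ((Scheme.Modules.pushforward f).obj F, V)
      exact this
  constructor
  · intro h
    refine isFP_of_sections _ fun y => ?_
    obtain ⟨V, hV, hyV, -⟩ := exists_isAffineOpen_mem_and_subset (X := Y) (x := y) (U := ⊤) trivial
    exact ⟨V, hV, hyV, (key V hV).1 (finitePresentation_sections (hV.preimage f) F h)⟩
  · intro h
    refine isFP_of_sections _ fun x => ?_
    obtain ⟨V, hV, hyV, -⟩ := exists_isAffineOpen_mem_and_subset (X := Y) (x := f x) (U := ⊤) trivial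
    exact ⟨f ⁻¹ᵁ V, hV.preimage f, hyV, (key V hV).2 (finitePresentation_sections hV _ h)⟩

end Groth.Agent.Lib.DescAlg.FPPush
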