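import Groth.Prelude.Def_EGA4b
import Groth.Agent.Lib.Henselian.Normal
import Groth.Agent.H20.SmoothRegular
import Groth.Agent.Lib.Regular.UFD
import Groth.Agent.Lib.Excellent.NormalRing
import Groth.Agent.Lib.EtaPt.Normal
import Mathlib.RingTheory.Smooth.IntegralClosure
import Mathlib.RingTheory.LocalProperties.Reduced
import Mathlib.RingTheory.Ideal.Quotient.Operations

/-! Normality ascends and descends along smooth ring maps. -/

set_option linter.style.haveILetI false

universe u

open TensorProduct Groth.Agent.Lib

namespace Groth.Agent.Lib.DescAlg.SmoothNormal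

theorem isDomain_of_normal_of_connected {C : Type u} [CommRing C] [IsNoetherianRing C]
    [Nontrivial C] (hn : EGA4.IsNormalRing C) (he : ∀ e : C, IsIdempotentElem e → e = 0 ∨ e = 1) :
    IsDomain C := by
  classical
  have : IsReduced C := isReduced_ofLocalizationMaximal C fun J _ =>
    haveI := (hn J).1
    inferInstance
  let T := minimalPrimes C
  have hT : T.Finite := Ideal.finite_minimalPrimes_of_isNoetherianRing C ⊥
  have : Fintype T := hT.fintype
  have hpair : Pairwise (Function.onFun IsCoprime (fun P : T => (P : Ideal C))) := by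
    intro P Q hPQ
    rw [Function.onFun, Ideal.isCoprime_iff_sup_eq]
    by_contra hne
    obtain ⟨m, hm, hle⟩ := Ideal.exists_le_maximal _ hne
    haveI := hm.isPrime
    apply hPQ
    exact Subtype.ext ((EtaPt.Normal.minimalPrime_eq_ker hn P.2 (le_sup_left.trans hle)).trans
      (EtaPt.Normal.minimalPrime_eq_ker hn Q.2 (le_sup_right.trans hle)).symm)
  have hinf : (⨅ P : T, (P : Ideal C)) = ⊥ := by
    rw [← sInf_eq_iInf']
    exact (Ideal.sInf_minimalPrimes (I := (⊥ : Ideal C))).trans (nilradical_eq_zero C)
  let e := (Ideal.quotientInfRingEquivPiQuotient _ hpair)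
  let f : C ≃+* ∀ P : T, C ⧸ (P : Ideal C) :=
    ((RingEquiv.quotientBot C).symm.trans (Ideal.quotEquivOfEq hinf.symm)).trans e
  obtain ⟨m, hm⟩ := Ideal.exists_maximal C
  haveI := hm.isPrime
  obtain ⟨P, hP⟩ := Ideal.exists_minimalPrimes_le (I := (⊥ : Ideal C)) (J := m) bot_le
  have huniq : ∀ Q : T, Q = ⟨P, hP.1⟩ := by
    intro Q
    by_contra hQ
    let x : ∀ P : T, C ⧸ (P : Ideal C) := Pi.single Q 1
    have hx : IsIdempotentElem (f.symm x) := by
      have : x * x = x := by rw [← Pi.single_mul, one_mul]
      show f.symm x * f.symm x = f.symm x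
      rw [← map_mul, this]
    have hnt : ∀ R : T, Nontrivial (C ⧸ (R : Ideal C)) := fun R =>
      Ideal.Quotient.nontrivial_iff.2 R.2.1.1.ne_top
    rcases he _ hx with h | h
    · have := congrFun (congrArg f h) Q
      rw [RingEquiv.apply_symm_apply, map_zero] at this
      simp only [x, Pi.single_eq_same, Pi.zero_apply] at this
      exact (haveI := hnt Q; one_ne_zero) this
    · have := congrFun (congrArg f h) ⟨P, hP.1⟩
      rw [RingEquiv.apply_symm_apply, map_one] at this
      simp only [x, Pi.one_apply, Pi.single_eq_of_ne (Ne.symm hQ)] at this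
      exact (haveI := hnt ⟨P, hP.1⟩; zero_ne_one) this
  have hbot : P = ⊥ := by
    refine le_antisymm ?_ bot_le
    rw [← hinf]
    exact le_iInf fun Q => by rw [huniq Q]
  have : (⊥ : Ideal C).IsPrime := hbot ▸ hP.1.1.1
  exact IsDomain.of_bot_isPrime C

theorem isIntegrallyClosed_of_subring {L C : Type u} [CommRing L] [CommRing C] [IsDomain L]
    [IsDomain C] [IsIntegrallyClosed C] [Algebra L C] (hinj : Function.Injective (algebraMap L C))
    (hdesc : ∀ c : C, IsIntegral L c → ∃ t, algebraMap L C t = c) : IsIntegrallyClosed L := by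
  refine (isIntegrallyClosed_iff (FractionRing L)).mpr fun {x} hx => ?_
  obtain ⟨g, hgdef⟩ : ∃ g : L →+* FractionRing C,
      g = (algebraMap C (FractionRing C)).comp (algebraMap L C) := ⟨_, rfl⟩
  have hg : Function.Injective g := by
    rw [hgdef, RingHom.coe_comp]
    exact (IsFractionRing.injective C (FractionRing C)).comp hinj
  obtain ⟨F, hF'⟩ : ∃ F : FractionRing L →+* FractionRing C,
      ∀ l, F (algebraMap L (FractionRing L) l) = g l :=
    ⟨IsFractionRing.lift hg, IsFractionRing.lift_algebraMap hg⟩
  have hF : F.comp (algebraMap L (FractionRing L)) = g := RingHom.ext hF' 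
  obtain ⟨P, hP, hPx⟩ := hx
  have hPF : Polynomial.eval₂ g (F x) P = 0 := by
    rw [← hF, ← Polynomial.hom_eval₂, hPx, map_zero]
  have hint : IsIntegral C (F x) :=
    ⟨P.map (algebraMap L C), hP.map _, by rw [Polynomial.eval₂_map, ← hgdef]; exact hPF⟩
  obtain ⟨c, hc⟩ := IsIntegrallyClosed.isIntegral_iff.mp hint
  have hcint : IsIntegral L c := by
    refine ⟨P, hP, IsFractionRing.injective C (FractionRing C) ?_⟩
    rw [map_zero, Polynomial.hom_eval₂, hc, ← hgdef]
    exact hPF
  obtain ⟨t, rfl⟩ := hdesc c hcint
  refine ⟨t, F.injective ?_⟩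
  rw [← RingHom.comp_apply, hF, hgdef, RingHom.comp_apply, hc]

section

variable {A B : Type u} [CommRing A] [CommRing B] [Algebra A B] [Algebra.Smooth A B]

theorem isNormalRing_of_field (k : Type u) [Field k] {D : Type u} [CommRing D] [Algebra k D]
    [Algebra.Smooth k D] : EGA4.IsNormalRing D := fun Q _ => by
  haveI : Algebra.IsSmoothAt k Q := inferInstanceAs (Algebra.FormallySmooth k (Localization.AtPrime Q))
  haveI := H20.SmoothRegular.isRegularLocalRing k Q
  exact ⟨Regular.Quotient.isDomain _, Regular.UFD.isIntegrallyClosed _⟩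

set_option maxHeartbeats 800000 in
theorem atPrime (hA : EGA4.IsNormalRing A) (q : Ideal B) [q.IsPrime] :
    IsDomain (Localization.AtPrime q) ∧ IsIntegrallyClosed (Localization.AtPrime q) := by
  let p := q.comap (algebraMap A B)
  obtain ⟨_, _⟩ := hA p
  let A' := Localization.AtPrime p
  let K := FractionRing A'
  let L := Localization.AtPrime q
  haveI : Module.Flat B L := IsLocalization.flat L q.primeCompl
  haveI : Module.Flat A B := Algebra.Smooth.flat A B
  haveI : Module.Flat A L := Module.Flat.trans A B L
  have hu : ∀ s : p.primeCompl, IsUnit (algebraMap A L s) := fun s => by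
    rw [IsScalarTower.algebraMap_apply A B L]
    exact IsLocalization.map_units L (⟨algebraMap A B s, s.2⟩ : q.primeCompl)
  let φ : A' →ₐ[A] L := IsLocalization.liftAlgHom (M := p.primeCompl) (f := Algebra.ofId A L) hu
  have hinjK : Function.Injective ((Algebra.TensorProduct.includeLeft : L →ₐ[A] L ⊗[A] K)) := by
    have h1 : Function.Injective (Algebra.TensorProduct.map (AlgHom.id A L)
        (IsScalarTower.toAlgHom A A' K)) :=
      Module.Flat.lTensor_preserves_injective_linearMap (M := L)
        (IsScalarTower.toAlgHom A A' K).toLinearMap (IsFractionRing.injective A' K)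
    have h2 : Function.LeftInverse (Algebra.TensorProduct.productMap (AlgHom.id A L) φ)
        (Algebra.TensorProduct.includeLeft : L →ₐ[A] L ⊗[A] A') := fun l => by simp
    have : (Algebra.TensorProduct.includeLeft : L →ₐ[A] L ⊗[A] K) =
        (Algebra.TensorProduct.map (AlgHom.id A L) (IsScalarTower.toAlgHom A A' K)).comp
          Algebra.TensorProduct.includeLeft := AlgHom.ext fun l => by simp
    rw [this]
    exact h1.comp h2.injective
  have hdesc : ∀ x : L ⊗[A] K, IsIntegral L x → ∃ t : L, t ⊗ₜ[A] (1 : K) = x := by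
    intro x hx
    have H := TensorProduct.toIntegralClosure_bijective_of_smooth (R := A) (S := B) (B := K)
    have H' := TensorProduct.toIntegralClosure_bijective_of_isLocalization (R := B) (S := L)
      (B := B ⊗[A] K) q.primeCompl
    obtain ⟨y, hy⟩ := (TensorProduct.toIntegralClosure_bijective_of_tower H H').2 ⟨x, hx⟩
    replace hy := congrArg Subtype.val hy
    change Algebra.TensorProduct.map (AlgHom.id L L) (integralClosure A K).val y = x at hy
    subst hy
    clear hx
    induction y using TensorProduct.induction_on with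
    | zero => exact ⟨0, by simp⟩
    | tmul t c =>
      obtain ⟨a', ha'⟩ := IsIntegrallyClosed.isIntegral_iff.mp (c.2.tower_top (A := A'))
      obtain ⟨a, s, rfl⟩ := IsLocalization.exists_mk'_eq p.primeCompl a'
      obtain ⟨w, hw⟩ := hu s
      refine ⟨(↑w⁻¹ * t) * algebraMap A L a, ?_⟩
      have hc : algebraMap A K (s : A) * (c : K) = algebraMap A K a := by
        rw [← ha', IsScalarTower.algebraMap_apply A A' K, IsScalarTower.algebraMap_apply A A' K,
          ← map_mul, IsLocalization.mk'_spec']
      rw [Algebra.TensorProduct.map_tmul]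
      show _ = t ⊗ₜ[A] (c : K)
      calc ((↑w⁻¹ * t) * algebraMap A L a) ⊗ₜ[A] (1 : K)
          = (↑w⁻¹ * t) ⊗ₜ[A] algebraMap A K a := by
            rw [mul_comm _ (algebraMap A L a), ← Algebra.smul_def, TensorProduct.smul_tmul,
              Algebra.algebraMap_eq_smul_one]
        _ = ((s : A) • (↑w⁻¹ * t)) ⊗ₜ[A] (c : K) := by
            rw [← hc, ← Algebra.smul_def, TensorProduct.smul_tmul]
        _ = t ⊗ₜ[A] (c : K) := by
            rw [Algebra.smul_def, ← hw, ← mul_assoc, Units.mul_inv, one_mul]
    | add y₁ y₂ h₁ h₂ =>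
      obtain ⟨t₁, ht₁⟩ := h₁
      obtain ⟨t₂, ht₂⟩ := h₂
      exact ⟨t₁ + t₂, by rw [add_tmul, ht₁, ht₂, map_add]⟩
  -- the generic fibre
  let C := L ⊗[A] K
  letI : Algebra (B ⊗[A] K) C :=
    (Algebra.TensorProduct.map (Algebra.ofId B L) (AlgHom.id A K)).toAlgebra
  haveI : IsLocalization (Algebra.algebraMapSubmonoid (B ⊗[A] K) q.primeCompl) C := by
    refine IsLocalization.tensorProduct_tensorProduct _ _ q.primeCompl _ ?_
    ext; simp [RingHom.algebraMap_toAlgebra]
  have hD : EGA4.IsNormalRing (B ⊗[A] K) :=
    Excellent.Transport.isoInvariant_isNormalRing (K ⊗[A] B) _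
      (Algebra.TensorProduct.comm A K B).toRingEquiv (isNormalRing_of_field K)
  haveI : IsNoetherianRing (B ⊗[A] K) := by
    haveI : IsNoetherianRing (K ⊗[A] B) := Algebra.FiniteType.isNoetherianRing K _
    exact isNoetherianRing_of_ringEquiv _ (Algebra.TensorProduct.comm A K B).toRingEquiv
  have hC : EGA4.IsNormalRing C :=
    Excellent.NormalRing.isNormalRing_of_isLocalization
      (Algebra.algebraMapSubmonoid (B ⊗[A] K) q.primeCompl) hD
  haveI : IsNoetherianRing C :=
    IsLocalization.isNoetherianRing (Algebra.algebraMapSubmonoid (B ⊗[A] K) q.primeCompl) C ‹_›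
  haveI : Nontrivial C := hinjK.nontrivial
  haveI : IsDomain C := isDomain_of_normal_of_connected hC fun e he => by
    obtain ⟨t, rfl⟩ := hdesc e ⟨Polynomial.X ^ 2 - Polynomial.X,
      (Polynomial.monic_X_pow 2).sub_of_left (by
        rw [Polynomial.degree_X_pow, Polynomial.degree_X]; decide), by simp [sq, he.eq]⟩
    have ht : IsIdempotentElem t := hinjK (by rw [map_mul]; exact he.eq)
    rcases (IsLocalRing.isUnit_or_isUnit_one_sub_self t) with h | h
    · exact Or.inr (by rw [(IsIdempotentElem.iff_eq_one_of_isUnit h).mp ht]; rfl)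
    · refine Or.inl ?_
      have := (IsIdempotentElem.iff_eq_one_of_isUnit h).mp ht.one_sub
      rw [sub_eq_self] at this
      rw [this, TensorProduct.zero_tmul]
  haveI : IsDomain L := Function.Injective.isDomain _ hinjK
  haveI : IsIntegrallyClosed C :=
    IsIntegrallyClosed.of_localization_maximal fun m _ _ => (hC m).2
  exact ⟨inferInstance, isIntegrallyClosed_of_subring (C := C) hinjK fun c hc => hdesc c hc⟩

theorem isNormalRing_of_smooth (hA : EGA4.IsNormalRing A) : EGA4.IsNormalRing B :=
  fun q _ => atPrime hA q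

theorem isNormalRing_of_faithfullyFlat [Module.FaithfullyFlat A B] (hB : EGA4.IsNormalRing B) :
    EGA4.IsNormalRing A := fun p _ => by
  obtain ⟨⟨q, hq⟩, hqp⟩ :=
    PrimeSpectrum.comap_surjective_of_faithfullyFlat (A := A) (B := B) ⟨p, inferInstance⟩
  obtain rfl : q.comap (algebraMap A B) = p := congrArg PrimeSpectrum.asIdeal hqp
  obtain ⟨_, _⟩ := hB q
  letI : Algebra (Localization.AtPrime (q.comap (algebraMap A B))) (Localization.AtPrime q) :=
    (Localization.localRingHom _ q (algebraMap A B) rfl).toAlgebra
  haveI : IsScalarTower A (Localization.AtPrime (q.comap (algebraMap A B))) (Localization.AtPrime q) :=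
    IsScalarTower.of_algebraMap_eq fun a => by
      rw [IsScalarTower.algebraMap_apply A B (Localization.AtPrime q)]
      exact (Localization.localRingHom_to_map _ q (algebraMap A B) rfl a).symm
  haveI : Module.Flat A (Localization.AtPrime q) :=
    haveI : Module.Flat B (Localization.AtPrime q) := IsLocalization.flat _ q.primeCompl
    Module.Flat.trans A B _
  haveI : Module.Flat (Localization.AtPrime (q.comap (algebraMap A B))) (Localization.AtPrime q) :=
    (Module.flat_iff_of_isLocalization (Localization.AtPrime (q.comap (algebraMap A B)))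
      (q.comap (algebraMap A B)).primeCompl _).2 ‹_›
  haveI : IsLocalHom (algebraMap (Localization.AtPrime (q.comap (algebraMap A B))) (Localization.AtPrime q)) :=
    Localization.isLocalHom_localRingHom _ q (algebraMap A B) rfl
  haveI : Module.FaithfullyFlat (Localization.AtPrime (q.comap (algebraMap A B)))
      (Localization.AtPrime q) := Module.FaithfullyFlat.of_flat_of_isLocalHom
  exact Henselian.Normal.isDomain_and_isIntegrallyClosed_of_faithfullyFlat _ (Localization.AtPrime q)

end

end Groth.Agent.Lib.DescAlg.SmoothNormal
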