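import Groth.Agent.Lib.ZarCoh.FlatBC.PullbackSections
import Mathlib.CategoryTheory.Adjunction.Mates

/-!
# Pulling back sections of inverse images

For `g ≫ u = v`, the map `R : Γ(u^*M, W) → Γ(v^*M, W')` for `W' ≤ g⁻¹W`; it is transitive and
compatible with the unit maps `pbRes`.
-/

set_option autoImplicit false
set_option backward.isDefEq.respectTransparency false
set_option backward.isDefEq.respectTransparency.types false
universe u

open CategoryTheory CategoryTheory.Limits AlgebraicGeometry Opposite TopologicalSpace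
open ZarCoh.FlatBC.PullbackSections

namespace Groth.Agent.Lib.DescAlg.PbSec

variable {X Y Z : Scheme.{u}}

/-- Morphisms out of an inverse image are determined on pulled back sections. -/
theorem hom_ext (u : Y ⟶ X) {M : X.Modules} {N : Y.Modules}
    {a b : (Scheme.Modules.pullback u).obj M ⟶ N}
    (h : ∀ (U : X.Opens) (m : Γ(M, U)),
      a.app (u ⁻¹ᵁ U) (pbRes u M le_rfl m) = b.app (u ⁻¹ᵁ U) (pbRes u M le_rfl m)) : a = b := by
  apply ((Scheme.Modules.pullbackPushforwardAdjunction u).homEquiv M N).injective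
  rw [Adjunction.homEquiv_unit, Adjunction.homEquiv_unit]
  refine Scheme.Modules.hom_ext _ _ fun U => ?_
  ext m
  have := h U m
  simp only [pbRes] at this
  change a.app (u ⁻¹ᵁ U) _ = b.app (u ⁻¹ᵁ U) _
  convert this using 2 <;>
  · change _ = ((Scheme.Modules.pullback u).obj M).presheaf.map (homOfLE le_rfl).op _
    rw [show (homOfLE (le_refl (u ⁻¹ᵁ U))).op = 𝟙 (op (u ⁻¹ᵁ U)) from rfl, CategoryTheory.Functor.map_id]
    rfl

/-- Pulled back sections restrict to pulled back sections. -/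
theorem map_pbRes (u : Y ⟶ X) (M : X.Modules) {U : X.Opens} {W W' : Y.Opens} (e : W ≤ u ⁻¹ᵁ U)
    (h : W' ≤ W) (m : Γ(M, U)) :
    ((Scheme.Modules.pullback u).obj M).presheaf.map (homOfLE h).op (pbRes u M e m) =
      pbRes u M (h.trans e) m := by
  let P := ((Scheme.Modules.pullback u).obj M).presheaf
  show P.map (homOfLE h).op (P.map (homOfLE e).op _) = P.map (homOfLE (h.trans e)).op _
  rw [← ConcreteCategory.comp_apply, ← P.map_comp]
  rfl

/-- `g^* u^* M ≅ v^* M`. -/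
noncomputable def tr (g : Z ⟶ Y) {u : Y ⟶ X} {v : Z ⟶ X} (h : g ≫ u = v) (M : X.Modules) :
    (Scheme.Modules.pullback g).obj ((Scheme.Modules.pullback u).obj M) ≅
      (Scheme.Modules.pullback v).obj M :=
  (Scheme.Modules.pullbackComp g u).app M ≪≫ (Scheme.Modules.pullbackCongr h).app M

/-- The morphism `u^* M ⟶ g_* v^* M`. -/
noncomputable def Rhom (g : Z ⟶ Y) {u : Y ⟶ X} {v : Z ⟶ X} (h : g ≫ u = v) (M : X.Modules) :
    (Scheme.Modules.pullback u).obj M ⟶
      (Scheme.Modules.pushforward g).obj ((Scheme.Modules.pullback v).obj M) :=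
  (Scheme.Modules.pullbackPushforwardAdjunction g).homEquiv _ _ (tr g h M).hom

/-- Pulling back sections of inverse images. -/
noncomputable def R (g : Z ⟶ Y) {u : Y ⟶ X} {v : Z ⟶ X} (h : g ≫ u = v) (M : X.Modules)
    {W : Y.Opens} {W' : Z.Opens} (e : W' ≤ g ⁻¹ᵁ W) :
    Γ((Scheme.Modules.pullback u).obj M, W) →+ Γ((Scheme.Modules.pullback v).obj M, W') :=
  (((Scheme.Modules.pullback v).obj M).presheaf.map (homOfLE e).op).hom.comp
    ((Rhom g h M).app W).hom

theorem R_eq (g : Z ⟶ Y) {u : Y ⟶ X} {v : Z ⟶ X} (h : g ≫ u = v) (M : X.Modules)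
    {W : Y.Opens} {W' : Z.Opens} (e : W' ≤ g ⁻¹ᵁ W) (x : Γ((Scheme.Modules.pullback u).obj M, W)) :
    R g h M e x = (tr g h M).hom.app W' (pbRes g ((Scheme.Modules.pullback u).obj M) e x) := by
  show ((Scheme.Modules.pullback v).obj M).presheaf.map (homOfLE e).op _ = _
  rw [Rhom, Adjunction.homEquiv_unit]
  exact (ConcreteCategory.congr_hom ((tr g h M).hom.mapPresheaf.naturality (homOfLE e).op) _).symm

theorem R_map (g : Z ⟶ Y) {u : Y ⟶ X} {v : Z ⟶ X} (h : g ≫ u = v) (M : X.Modules)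
    {W W₁ : Y.Opens} {W' : Z.Opens} (hW : W₁ ≤ W) (e : W' ≤ g ⁻¹ᵁ W₁)
    (x : Γ((Scheme.Modules.pullback u).obj M, W)) :
    R g h M e (((Scheme.Modules.pullback u).obj M).presheaf.map (homOfLE hW).op x) =
      R g h M (e.trans (g.preimage_mono hW)) x := by
  let P := ((Scheme.Modules.pullback v).obj M).presheaf
  show P.map (homOfLE e).op ((Rhom g h M).app W₁ _) = P.map _ ((Rhom g h M).app W x)
  have := ConcreteCategory.congr_hom ((Rhom g h M).mapPresheaf.naturality (homOfLE hW).op) x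
  refine (congrArg (P.map (homOfLE e).op) this).trans ?_
  show P.map (homOfLE e).op (P.map _ _) = _
  rw [← ConcreteCategory.comp_apply, ← P.map_comp]
  rfl

theorem map_R (g : Z ⟶ Y) {u : Y ⟶ X} {v : Z ⟶ X} (h : g ≫ u = v) (M : X.Modules)
    {W : Y.Opens} {W' W'' : Z.Opens} (e : W' ≤ g ⁻¹ᵁ W) (hW : W'' ≤ W')
    (x : Γ((Scheme.Modules.pullback u).obj M, W)) :
    ((Scheme.Modules.pullback v).obj M).presheaf.map (homOfLE hW).op (R g h M e x) =
      R g h M (hW.trans e) x := by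
  let P := ((Scheme.Modules.pullback v).obj M).presheaf
  show P.map (homOfLE hW).op (P.map (homOfLE e).op _) = P.map (homOfLE (hW.trans e)).op _
  rw [← ConcreteCategory.comp_apply, ← P.map_comp]
  rfl

theorem R_smul (g : Z ⟶ Y) {u : Y ⟶ X} {v : Z ⟶ X} (h : g ≫ u = v) (M : X.Modules)
    {W : Y.Opens} {W' : Z.Opens} (e : W' ≤ g ⁻¹ᵁ W) (r : Γ(Y, W))
    (x : Γ((Scheme.Modules.pullback u).obj M, W)) :
    R g h M e (r • x) = g.appLE W W' e r • R g h M e x := by
  rw [R_eq, R_eq, pbRes_smul, Scheme.Modules.Hom.app_smul]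

/-- The unit maps are transitive. -/
theorem R_pbRes (g : Z ⟶ Y) {u : Y ⟶ X} {v : Z ⟶ X} (h : g ≫ u = v) (M : X.Modules)
    {U : X.Opens} {W : Y.Opens} {W' : Z.Opens} (eW : W ≤ u ⁻¹ᵁ U) (e : W' ≤ g ⁻¹ᵁ W) (m : Γ(M, U)) :
    R g h M e (pbRes u M eW m) = pbRes v M (le_trans e (le_trans (g.preimage_mono eW) (by rw [← h]; rfl))) m := by
  subst h
  rw [show pbRes u M eW m = ((Scheme.Modules.pullback u).obj M).presheaf.map (homOfLE eW).op
    (((Scheme.Modules.pullbackPushforwardAdjunction u).unit.app M).app U m) from rfl, R_map]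
  show ((Scheme.Modules.pullback (g ≫ u)).obj M).presheaf.map _
      ((Rhom g rfl M).app (u ⁻¹ᵁ U) (((Scheme.Modules.pullbackPushforwardAdjunction u).unit.app M).app U m)) = _
  rw [Rhom, Adjunction.homEquiv_unit]
  have key := unit_conjugateEquiv
    ((Scheme.Modules.pullbackPushforwardAdjunction u).comp (Scheme.Modules.pullbackPushforwardAdjunction g))
    (Scheme.Modules.pullbackPushforwardAdjunction (g ≫ u)) (Scheme.Modules.pullbackComp g u).inv M
  rw [Scheme.Modules.conjugateEquiv_pullbackComp_inv] at key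
  have k2 := congr(($key).app U m)
  show _ = ((Scheme.Modules.pullback (g ≫ u)).obj M).presheaf.map _
    (((Scheme.Modules.pullbackPushforwardAdjunction (g ≫ u)).unit.app M).app U m)
  congr 1
  have k3 := congrArg (((Scheme.Modules.pullbackComp g u).hom.app M).app (g ⁻¹ᵁ (u ⁻¹ᵁ U))) k2
  refine Eq.trans ?_ (k3.trans ?_)
  · simp [tr, Scheme.Modules.pullbackCongr]
  · have e1 : (Scheme.Modules.pullbackComp g u).inv.app M ≫ (Scheme.Modules.pullbackComp g u).hom.app M = 𝟙 _ :=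
      Iso.inv_hom_id_app _ _
    exact congr((($e1).app (g ⁻¹ᵁ (u ⁻¹ᵁ U))) (((Scheme.Modules.pullbackPushforwardAdjunction (g ≫ u)).unit.app M).app U m))

theorem R_comp {T : Scheme.{u}} (g : Z ⟶ Y) (g' : T ⟶ Z) (g'' : T ⟶ Y) {u : Y ⟶ X} {v : Z ⟶ X}
    {w : T ⟶ X} (h : g ≫ u = v) (h' : g' ≫ v = w) (hg : g' ≫ g = g'') (M : X.Modules)
    {W : Y.Opens} {W' : Z.Opens} {W'' : T.Opens} (e : W' ≤ g ⁻¹ᵁ W) (e' : W'' ≤ g' ⁻¹ᵁ W')
    (x : Γ((Scheme.Modules.pullback u).obj M, W)) :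
    R g' h' M e' (R g h M e x) =
      R g'' (by rw [← hg, Category.assoc, h, h']) M
        (le_trans e' (le_trans (g'.preimage_mono e) (by rw [← hg]; rfl))) x := by
  subst hg
  rw [show R g h M e x = ((Scheme.Modules.pullback v).obj M).presheaf.map (homOfLE e).op
    ((Rhom g h M).app W x) from rfl, R_map]
  have key : Rhom g h M ≫ (Scheme.Modules.pushforward g).map (Rhom g' h' M) ≫
      (Scheme.Modules.pushforwardComp g' g).hom.app _ =
      Rhom (g' ≫ g) (show (g' ≫ g) ≫ u = w by rw [Category.assoc, h, h']) M := by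
    refine hom_ext u fun U m => ?_
    have h1 := R_pbRes g h M (le_refl (u ⁻¹ᵁ U)) (le_refl (g ⁻¹ᵁ (u ⁻¹ᵁ U))) m
    have h2 := R_pbRes g' h' M (U := U) (W := g ⁻¹ᵁ (u ⁻¹ᵁ U)) (W' := g' ⁻¹ᵁ (g ⁻¹ᵁ (u ⁻¹ᵁ U)))
      (by rw [← h]; rfl) le_rfl m
    have h3 := R_pbRes (g' ≫ g) (show (g' ≫ g) ≫ u = w by rw [Category.assoc, h, h']) M
      (le_refl (u ⁻¹ᵁ U)) (le_refl ((g' ≫ g) ⁻¹ᵁ (u ⁻¹ᵁ U))) m
    have e1 : ∀ {Z Y : Scheme.{u}} (g : Z ⟶ Y) {u : Y ⟶ X} {v : Z ⟶ X} (h : g ≫ u = v) (W : Y.Opens)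
        (x : Γ((Scheme.Modules.pullback u).obj M, W)), R g h M (le_refl (g ⁻¹ᵁ W)) x = (Rhom g h M).app W x := by
      intro Z Y g u v h W x
      show ((Scheme.Modules.pullback v).obj M).presheaf.map (homOfLE _).op _ = _
      rw [show (homOfLE (le_refl (g ⁻¹ᵁ W))).op = 𝟙 (op (g ⁻¹ᵁ W)) from rfl, CategoryTheory.Functor.map_id]
      rfl
    rw [e1] at h1 h2 h3
    refine Eq.trans ?_ h3.symm
    exact (congrArg ((Rhom g' h' M).app (g ⁻¹ᵁ (u ⁻¹ᵁ U))) h1).trans h2
  show ((Scheme.Modules.pullback w).obj M).presheaf.map _ _ = ((Scheme.Modules.pullback w).obj M).presheaf.map _ _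
  congr 1
  exact congr(($key).app W x)

theorem R_id {u : Y ⟶ X} (M : X.Modules) {W W' : Y.Opens} (e : W' ≤ W)
    (x : Γ((Scheme.Modules.pullback u).obj M, W)) :
    R (𝟙 Y) (Category.id_comp u) M (W' := W') e x =
      ((Scheme.Modules.pullback u).obj M).presheaf.map (homOfLE e).op x := by
  have key : Rhom (𝟙 Y) (Category.id_comp u) M = (Scheme.Modules.pushforwardId Y).inv.app _ := by
    refine hom_ext u fun U m => ?_
    have h1 := R_pbRes (𝟙 Y) (Category.id_comp u) M (le_refl (u ⁻¹ᵁ U)) (le_refl ((𝟙 Y) ⁻¹ᵁ (u ⁻¹ᵁ U))) m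
    refine Eq.trans ?_ (h1.trans rfl)
    exact (ConcreteCategory.congr_hom
      (((Scheme.Modules.pullback u).obj M).presheaf.map_id (op (u ⁻¹ᵁ U))) _).symm
  exact congrArg (((Scheme.Modules.pullback u).obj M).presheaf.map (homOfLE e).op)
    congr(($key).app W x)

end Groth.Agent.Lib.DescAlg.PbSec
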