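import Groth.Agent.Lib.DescAlg.PbSecSheaf
import Mathlib.AlgebraicGeometry.Restrict

/-!
# Morphisms of quasi-coherent modules glue along fpqc coverings
-/

set_option autoImplicit false
set_option backward.isDefEq.respectTransparency false
set_option backward.isDefEq.respectTransparency.types false
set_option linter.style.haveILetI false
universe u

open CategoryTheory CategoryTheory.Limits AlgebraicGeometry Opposite TopologicalSpace
open ZarCoh.FlatBC.PullbackSections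

namespace Groth.Agent.Lib.DescAlg.PbSec

theorem pbRes_natural {X Y : Scheme.{u}} (u : Y ⟶ X) {M N : X.Modules} (φ : M ⟶ N) {U : X.Opens}
    {W : Y.Opens} (e : W ≤ u ⁻¹ᵁ U) (m : Γ(M, U)) :
    ((Scheme.Modules.pullback u).map φ).app W (pbRes u M e m) = pbRes u N e (φ.app U m) := by
  have h1 := congr((($((Scheme.Modules.pullbackPushforwardAdjunction u).unit.naturality φ)).app U) m)
  show ((Scheme.Modules.pullback u).map φ).app W
      (((Scheme.Modules.pullback u).obj M).presheaf.map (homOfLE e).op _) =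
    ((Scheme.Modules.pullback u).obj N).presheaf.map (homOfLE e).op _
  refine (ConcreteCategory.congr_hom
    (((Scheme.Modules.pullback u).map φ).mapPresheaf.naturality (homOfLE e).op) _).trans ?_
  exact congrArg _ h1.symm

variable {X Y Z : Scheme.{u}} (M N : X.Modules)

/-- The morphism over `q` induced by a morphism over a factor. -/
noncomputable def conj (g : Z ⟶ Y) {u : Y ⟶ X} {q : Z ⟶ X} (h : g ≫ u = q)
    (ψ : (Scheme.Modules.pullback u).obj M ⟶ (Scheme.Modules.pullback u).obj N) :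
    (Scheme.Modules.pullback q).obj M ⟶ (Scheme.Modules.pullback q).obj N :=
  (tr g h M).inv ≫ (Scheme.Modules.pullback g).map ψ ≫ (tr g h N).hom

theorem R_app (g : Z ⟶ Y) {u : Y ⟶ X} {q : Z ⟶ X} (h : g ≫ u = q)
    (ψ : (Scheme.Modules.pullback u).obj M ⟶ (Scheme.Modules.pullback u).obj N) {W : Y.Opens}
    {W' : Z.Opens} (e : W' ≤ g ⁻¹ᵁ W) (x : Γ((Scheme.Modules.pullback u).obj M, W)) :
    R g h N e (ψ.app W x) = (conj M N g h ψ).app W' (R g h M e x) := by
  rw [R_eq, R_eq, ← pbRes_natural]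
  show _ = (tr g h N).hom.app W' (((Scheme.Modules.pullback g).map ψ).app W' ((tr g h M).inv.app W' ((tr g h M).hom.app W' _)))
  have e1 : (tr g h M).hom.app W' ≫ (tr g h M).inv.app W' = 𝟙 _ := by
    rw [← Scheme.Modules.Hom.comp_app, Iso.hom_inv_id]
    rfl
  congr 2
  exact (ConcreteCategory.congr_hom e1 _).symm

theorem pbRes_bijective (j : Y ⟶ X) [IsOpenImmersion j] {U : X.Opens} (hU : U ≤ j.opensRange)
    (hU' : ⊤ ≤ j ⁻¹ᵁ U) : Function.Bijective (pbRes j M (V := ⊤) hU') := by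
  have h1 := Adjunction.unit_leftAdjointUniq_hom_app (Scheme.Modules.restrictAdjunction j)
    (Scheme.Modules.pullbackPushforwardAdjunction j) M
  have h' : ((Scheme.Modules.pullbackPushforwardAdjunction j).unit.app M).app U =
      M.presheaf.map (homOfLE (j.image_preimage_le U)).op ≫
        ((Scheme.Modules.restrictFunctorIsoPullback j).hom.app M).app (j ⁻¹ᵁ U) := by
    rw [← h1]
    rfl
  have e : U ≤ j ''ᵁ j ⁻¹ᵁ U := fun x hx => by
    obtain ⟨y, rfl⟩ := hU hx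
    exact ⟨y, hx, rfl⟩
  have hi : IsIso (homOfLE (j.image_preimage_le U)) := ⟨homOfLE e, rfl, rfl⟩
  have hj : IsIso (homOfLE hU') := ⟨homOfLE le_top, rfl, rfl⟩
  have hb : Function.Bijective (((Scheme.Modules.pullbackPushforwardAdjunction j).unit.app M).app U) := by
    rw [h']
    exact (ConcreteCategory.bijective_of_isIso
        (((Scheme.Modules.restrictFunctorIsoPullback j).hom.app M).app (j ⁻¹ᵁ U))).comp
      (ConcreteCategory.bijective_of_isIso (M.presheaf.map (homOfLE (j.image_preimage_le U)).op))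
  exact (ConcreteCategory.bijective_of_isIso
    (((Scheme.Modules.pullback j).obj M).presheaf.map (homOfLE hU').op)).comp hb

variable {S : Scheme.{u}} {ι : Type u} {V : ι → Scheme.{u}} (f : ∀ i, V i ⟶ S)
  (hf : Sieve.ofArrows V f ∈ Scheme.fpqcTopology S) {M₀ N₀ : S.Modules} [N₀.IsQuasicoherent]
  (ψ : ∀ i, (Scheme.Modules.pullback (f i)).obj M₀ ⟶ (Scheme.Modules.pullback (f i)).obj N₀)
  (hψ : ∀ ⦃T : Scheme.{u}⦄ (q : T ⟶ S) ⦃i j : ι⦄ (a : T ⟶ V i) (b : T ⟶ V j) (ha : a ≫ f i = q)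
    (hb : b ≫ f j = q), conj M₀ N₀ a ha (ψ i) = conj M₀ N₀ b hb (ψ j))

include hf in
theorem ofArrows_restrict_mem (U : S.Opens) :
    Sieve.ofArrows (fun i => ((f i) ⁻¹ᵁ U).toScheme) (fun i => f i ∣_ U) ∈ Scheme.fpqcTopology U.toScheme := by
  refine Scheme.fpqcTopology.superset_covering ?_ (Scheme.fpqcTopology.pullback_stable U.ι hf)
  intro T g hg
  obtain ⟨i, a, ha⟩ := (Sieve.mem_ofArrows_iff _ _ _).1 hg
  refine (Sieve.mem_ofArrows_iff _ _ _).2 ⟨i, (isPullback_morphismRestrict (f i) U).lift g a ha, ?_⟩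
  exact ((isPullback_morphismRestrict (f i) U).lift_fst g a ha).symm

include hf hψ in
theorem existsUnique_value (U : S.Opens) (m : Γ(M₀, U)) :
    ∃! s : Γ(N₀, U), ∀ i, pbRes (f i) N₀ (le_refl (f i ⁻¹ᵁ U)) s =
      (ψ i).app (f i ⁻¹ᵁ U) (pbRes (f i) M₀ (le_refl (f i ⁻¹ᵁ U)) m) := by
  let W : ι → Scheme.{u} := fun i => ((f i) ⁻¹ᵁ U).toScheme
  let g : ∀ i, W i ⟶ U.toScheme := fun i => f i ∣_ U
  let j : ∀ i, W i ⟶ V i := fun i => (f i ⁻¹ᵁ U).ι
  have hgj : ∀ i, g i ≫ U.ι = j i ≫ f i := fun i => morphismRestrict_ι (f i) U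
  have hjtop : ∀ i, (⊤ : (W i).Opens) ≤ j i ⁻¹ᵁ (f i ⁻¹ᵁ U) := fun i z _ => z.2
  have hjr : ∀ i, (f i ⁻¹ᵁ U) ≤ (j i).opensRange := fun i => (Scheme.Opens.opensRange_ι _).ge
  let val : ∀ i, Γ((Scheme.Modules.pullback (f i)).obj N₀, f i ⁻¹ᵁ U) := fun i =>
    (ψ i).app (f i ⁻¹ᵁ U) (pbRes (f i) M₀ (le_refl (f i ⁻¹ᵁ U)) m)
  let y : ∀ i, (sigmaPresheaf N₀).obj (op (W i)) := fun i =>
    ⟨j i ≫ f i, R (j i) rfl N₀ (hjtop i) (val i)⟩
  have hS : Presieve.IsSheafFor (sigmaPresheaf N₀) (Presieve.ofArrows W g) :=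
    (Presieve.isSheafFor_iff_generate _).2 ((isSheaf_sigmaPresheaf N₀) _ (ofArrows_restrict_mem f hf U))
  have hY : Presieve.IsSheafFor (yoneda.obj S) (Presieve.ofArrows W g) :=
    (Presieve.isSheafFor_iff_generate _).2
      (GrothendieckTopology.Subcanonical.isSheaf_of_isRepresentable (J := Scheme.fpqcTopology) _ _ (ofArrows_restrict_mem f hf U))
  rw [Presieve.isSheafFor_arrows_iff] at hS
  obtain ⟨⟨t, s'⟩, hs', hsu⟩ := hS y (fun i i' T a a' haa => by
    have hq : a ≫ j i ≫ f i = a' ≫ j i' ≫ f i' := by rw [← hgj, ← hgj, reassoc_of% haa]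
    refine (sigma_R_eq N₀ rfl _ ?_).trans (sigma_R_eq N₀ hq.symm _ rfl).symm
    have hq₁ : (a ≫ j i) ≫ f i = a ≫ j i ≫ f i := Category.assoc _ _ _
    have hq₂ : (a' ≫ j i') ≫ f i' = a ≫ j i ≫ f i := (Category.assoc _ _ _).trans hq.symm
    refine (R_comp (j i) a (a ≫ j i) rfl rfl rfl N₀ (W' := ⊤) (W'' := ⊤) (hjtop i) le_top (val i)).trans
      (Eq.trans ?_ (R_comp (j i') a' (a' ≫ j i') rfl hq.symm rfl N₀ (W' := ⊤) (W'' := ⊤) (hjtop i') le_top (val i')).symm)
    rw [R_app M₀ N₀ (a ≫ j i) hq₁ (ψ i), R_app M₀ N₀ (a' ≫ j i') hq₂ (ψ i'),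
      R_pbRes (a ≫ j i) hq₁, R_pbRes (a' ≫ j i') hq₂, hψ (a ≫ j i ≫ f i) (a ≫ j i) (a' ≫ j i') hq₁ hq₂])
  obtain rfl : t = U.ι := hY.isSeparatedFor.ext fun Y g' hg => by
    obtain ⟨i⟩ := hg
    exact (congrArg Sigma.fst (hs' i)).trans (hgj i).symm
  have hUt : (⊤ : U.toScheme.Opens) ≤ U.ι ⁻¹ᵁ U := fun z _ => z.2
  have hb := pbRes_bijective N₀ U.ι (Scheme.Opens.opensRange_ι U).ge hUt
  have key : ∀ (s : Γ(N₀, U)) (i : ι),
      pbRes (f i) N₀ (le_refl (f i ⁻¹ᵁ U)) s = val i ↔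
        R (g i) (hgj i) N₀ (W' := ⊤) le_top (pbRes U.ι N₀ hUt s) = R (j i) rfl N₀ (hjtop i) (val i) := by
    intro s i
    rw [← (R_bijective_top (j i) rfl N₀ (hjr i) (hjtop i)).injective.eq_iff, R_pbRes, R_pbRes]
  obtain ⟨s, hs⟩ := hb.surjective s'
  refine ⟨s, fun i => (key s i).2 ?_, fun s₂ hs₂ => hb.injective ?_⟩
  · rw [hs]
    exact R_subst N₀ _ (hgj i) s' (hs' i)
  · rw [hs]
    exact eq_of_heq (Sigma.mk.inj_iff.1 (hsu ⟨U.ι, pbRes U.ι N₀ hUt s₂⟩ fun i =>
      sigma_R_eq N₀ (hgj i) _ ((key s₂ i).1 (hs₂ i)))).2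

include hf hψ in
/-- Morphisms glue. -/
theorem exists_hom : ∃ φ : M₀ ⟶ N₀, ∀ i, (Scheme.Modules.pullback (f i)).map φ = ψ i := by
  choose φ hφ huniq using existsUnique_value f hf ψ hψ
  have hadd : ∀ U a b, φ U (a + b) = φ U a + φ U b := fun U a b =>
    (huniq U (a + b) _ fun i => by rw [map_add, map_add, map_add, hφ, hφ]).symm
  have hzero : ∀ U, φ U 0 = 0 := fun U => (huniq U 0 _ fun i => by simp only [map_zero]).symm
  let φp : M₀.presheaf ⟶ N₀.presheaf :=
    { app := fun U => AddCommGrpCat.ofHom { toFun := φ U.unop, map_zero' := hzero _, map_add' := hadd _ }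
      naturality := fun U U' k => by
        ext m
        show φ U'.unop (M₀.presheaf.map k m) = N₀.presheaf.map k (φ U.unop m)
        refine (huniq U'.unop _ _ fun i => ?_).symm
        have e : f i ⁻¹ᵁ U'.unop ≤ f i ⁻¹ᵁ U.unop := (f i).preimage_mono k.unop.le
        have h1 : ∀ (P : S.Modules) (x : Γ(P, U.unop)), pbRes (f i) P (le_refl (f i ⁻¹ᵁ U'.unop)) (P.presheaf.map k x) =
            ((Scheme.Modules.pullback (f i)).obj P).presheaf.map (homOfLE e).op (pbRes (f i) P (le_refl (f i ⁻¹ᵁ U.unop)) x) := by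
          intro P x
          rw [map_pbRes, show k = (homOfLE k.unop.le).op from rfl]
          let Q := ((Scheme.Modules.pullback (f i)).obj P).presheaf
          show Q.map (homOfLE le_rfl).op (((Scheme.Modules.pullbackPushforwardAdjunction (f i)).unit.app P).app _ _) =
            Q.map (homOfLE _).op (((Scheme.Modules.pullbackPushforwardAdjunction (f i)).unit.app P).app U.unop x)
          refine (congrArg (Q.map _) (ConcreteCategory.congr_hom
            (((Scheme.Modules.pullbackPushforwardAdjunction (f i)).unit.app P).mapPresheaf.naturality _) x)).trans ?_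
          show Q.map _ (Q.map _ _) = _
          rw [← ConcreteCategory.comp_apply, ← Q.map_comp]
          rfl
        rw [h1, h1, hφ]
        exact (ConcreteCategory.congr_hom ((ψ i).mapPresheaf.naturality (homOfLE e).op) _).symm }
  refine ⟨⟨PresheafOfModules.homMk φp fun U r m => ?_⟩, fun i => hom_ext (f i) fun U m => ?_⟩
  · show φ U.unop ((show Γ(S, U.unop) from r) • (show Γ(M₀, U.unop) from m)) =
        (show Γ(S, U.unop) from r) • φ U.unop m
    exact (huniq U.unop _ _ fun i => by rw [pbRes_smul, pbRes_smul, Scheme.Modules.Hom.app_smul, hφ]).symm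
  · rw [pbRes_natural]
    exact hφ U m i

include hf in
theorem pullback_map_injective {φ φ' : M₀ ⟶ N₀}
    (h : ∀ i, (Scheme.Modules.pullback (f i)).map φ = (Scheme.Modules.pullback (f i)).map φ') : φ = φ' := by
  refine Scheme.Modules.hom_ext _ _ fun U => ?_
  ext m
  have hc : ∀ ⦃T : Scheme.{u}⦄ (q : T ⟶ S) ⦃i j : ι⦄ (a : T ⟶ V i) (b : T ⟶ V j) (ha : a ≫ f i = q)
      (hb : b ≫ f j = q), conj M₀ N₀ a ha ((Scheme.Modules.pullback (f i)).map φ) =
        conj M₀ N₀ b hb ((Scheme.Modules.pullback (f j)).map φ) := by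
    intro T q i j a b ha hb
    refine hom_ext q fun U m => ?_
    have e : ∀ {k} (c : T ⟶ V k) (hc : c ≫ f k = q), (conj M₀ N₀ c hc ((Scheme.Modules.pullback (f k)).map φ)).app (q ⁻¹ᵁ U)
        (pbRes q M₀ le_rfl m) = pbRes q N₀ (le_refl (q ⁻¹ᵁ U)) (φ.app U m) := by
      intro k c hc
      have e' : q ⁻¹ᵁ U ≤ c ⁻¹ᵁ (f k ⁻¹ᵁ U) := by rw [← hc]; rfl
      rw [← R_pbRes c hc M₀ (le_refl (f k ⁻¹ᵁ U)) e' m, ← R_app, pbRes_natural, R_pbRes]
    rw [e a ha, e b hb]
  obtain ⟨s, _, hu⟩ := existsUnique_value f hf (fun i => (Scheme.Modules.pullback (f i)).map φ) hc U m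
  exact (hu _ fun i => (pbRes_natural _ φ _ m).symm).trans
    (hu _ fun i => by rw [← pbRes_natural, ← h i]).symm

end Groth.Agent.Lib.DescAlg.PbSec
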