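import Mathlib.RingTheory.Finiteness.Descent
import Mathlib.RingTheory.Finiteness.Projective
import Mathlib.Algebra.Module.Projective
import Mathlib.LinearAlgebra.TensorProduct.Pi
import Mathlib.RingTheory.Flat.FaithfullyFlat.Algebra
import Mathlib.RingTheory.Spectrum.Prime.Topology
import Groth.Agent.Lib.Pure.ProjDescent

/-! Finite projectivity descends along finite jointly surjective flat families of ring maps. -/

open TensorProduct

universe u

namespace Groth.Agent.Lib.DescAlg.FinProjDescent

set_option linter.style.haveILetI false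

variable {ι : Type} [Fintype ι] [DecidableEq ι]

set_option linter.unusedSectionVars false

theorem projective_pi {B : Type u} [CommRing B] (Q : ι → Type u) [∀ j, AddCommGroup (Q j)]
    [∀ j, Module B (Q j)] [∀ j, Module.Projective B (Q j)] : Module.Projective B (∀ j, Q j) :=
  Module.Projective.of_equiv (DFinsupp.linearEquivFunOnFintype (R := B) (M := Q))

theorem finite_projective_of_equiv {B : Type u} [CommRing B] (Q : ι → Type u)
    [∀ j, AddCommGroup (Q j)] [∀ j, Module B (Q j)] (hf : ∀ j, Module.Finite B (Q j))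
    (hp : ∀ j, Module.Projective B (Q j)) {P : Type u} [AddCommGroup P] [Module B P]
    (e : P ≃ₗ[B] ∀ j, Q j) : Module.Finite B P ∧ Module.Projective B P :=
  haveI := projective_pi (B := B) Q
  ⟨Module.Finite.equiv e.symm, Module.Projective.of_equiv e.symm⟩

theorem finite_projective_of_components (S : ι → Type u) [∀ j, CommRing (S j)] (P : Type u)
    [AddCommGroup P] [Module (∀ j, S j) P]
    (h : ∀ j, letI := (Pi.evalRingHom S j).toAlgebra
      Module.Finite (S j) (S j ⊗[∀ j, S j] P) ∧ Module.Projective (S j) (S j ⊗[∀ j, S j] P)) :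
    Module.Finite (∀ j, S j) P ∧ Module.Projective (∀ j, S j) P := by
  letI : ∀ j, Algebra (∀ j, S j) (S j) := fun j => (Pi.evalRingHom S j).toAlgebra
  have hp : ∀ j, Module.Projective (∀ j, S j) (S j) := fun j => by
    refine Module.Projective.of_split (P := S j) (M := ∀ j, S j)
      { toFun := fun x => Pi.single j x
        map_add' := fun x y => Pi.single_add (f := S) j x y
        map_smul' := fun b x => ?_ }
      { toFun := fun b => b j
        map_add' := fun _ _ => rfl
        map_smul' := fun b x => rfl } (LinearMap.ext fun x => Pi.single_eq_same j x)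
    funext k
    rcases eq_or_ne k j with rfl | hk
    · simp [Algebra.smul_def, RingHom.algebraMap_toAlgebra]
    · simp [hk]
  have hf : ∀ j, Module.Finite (∀ j, S j) (S j) := fun j =>
    Module.Finite.of_surjective (Algebra.linearMap (∀ j, S j) (S j))
      (fun x => ⟨Pi.single j x, Pi.single_eq_same j x⟩)
  have hF : ∀ j, Module.Finite (∀ j, S j) (S j ⊗[∀ j, S j] P) := fun j =>
    haveI := (h j).1
    Module.Finite.trans (S j) _
  have hP : ∀ j, Module.Projective (∀ j, S j) (S j ⊗[∀ j, S j] P) := fun j => by
    haveI := (h j).1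
    haveI := (h j).2
    obtain ⟨n, f, g, -, -, hfg⟩ :=
      Module.Finite.exists_comp_eq_id_of_projective (S j) (S j ⊗[∀ j, S j] P)
    haveI := projective_pi (ι := Fin n) (B := ∀ j, S j) (fun _ => S j)
    refine Module.Projective.of_split (M := Fin n → S j) (g.restrictScalars _)
      (f.restrictScalars _) ?_
    exact LinearMap.ext fun x => congr($hfg x)
  refine finite_projective_of_equiv (fun j => S j ⊗[∀ j, S j] P) hF hP (
    (TensorProduct.rid (∀ j, S j) P).symm ≪≫ₗ
      TensorProduct.congr (LinearEquiv.refl _ P)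
        ({ toFun := id, invFun := id, left_inv := fun _ => rfl, right_inv := fun _ => rfl,
           map_add' := fun _ _ => rfl, map_smul' := fun _ _ => rfl } :
          (∀ j, S j) ≃ₗ[∀ j, S j] ∀ j, S j) ≪≫ₗ
      TensorProduct.piRight (∀ j, S j) (∀ j, S j) P S ≪≫ₗ
      LinearEquiv.piCongrRight fun j => TensorProduct.comm (∀ j, S j) P (S j))

theorem finite_projective_of_cover {A : Type u} [CommRing A] (S : ι → Type u)
    [∀ j, CommRing (S j)] [∀ j, Algebra A (S j)] [∀ j, Module.Flat A (S j)]
    (hsurj : ∀ p : PrimeSpectrum A, ∃ j q, PrimeSpectrum.comap (algebraMap A (S j)) q = p)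
    (N : Type u) [AddCommGroup N] [Module A N]
    (h : ∀ j, Module.Finite (S j) (S j ⊗[A] N) ∧ Module.Projective (S j) (S j ⊗[A] N)) :
    Module.Finite A N ∧ Module.Projective A N := by
  haveI : Module.Flat A (∀ j, S j) :=
    Module.Flat.of_linearEquiv (DFinsupp.linearEquivFunOnFintype (R := A) (M := S)).symm
  haveI : Module.FaithfullyFlat A (∀ j, S j) := by
    refine Module.FaithfullyFlat.of_comap_surjective (fun p => ?_)
    obtain ⟨j, q, hq⟩ := hsurj p
    exact ⟨PrimeSpectrum.comap (Pi.evalRingHom S j) q, hq⟩
  letI : ∀ j, Algebra (∀ j, S j) (S j) := fun j => (Pi.evalRingHom S j).toAlgebra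
  haveI : ∀ j, IsScalarTower A (∀ j, S j) (S j) := fun j =>
    IsScalarTower.of_algebraMap_eq fun a => rfl
  obtain ⟨h1, h2⟩ := finite_projective_of_components S ((∀ j, S j) ⊗[A] N) fun j => by
    let e := (AlgebraTensorModule.cancelBaseChange A (∀ j, S j) (S j) (S j) N)
    haveI := (h j).1
    haveI := (h j).2
    exact ⟨Module.Finite.equiv e.symm, Module.Projective.of_equiv e.symm⟩
  exact ⟨Module.Finite.of_finite_tensorProduct_of_faithfullyFlat (∀ j, S j),
    Groth.Agent.Lib.Pure.ProjDescent.projective_of_faithfullyFlat (∀ j, S j)⟩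

end Groth.Agent.Lib.DescAlg.FinProjDescent
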