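import Mathlib.AlgebraicGeometry.Morphisms.Etale
import Mathlib.AlgebraicGeometry.Fiber
import Mathlib.RingTheory.Etale.Field
import Mathlib.RingTheory.Unramified.LocalRing

/-! Morphisms of fibres of etale squares are etale. -/
set_option autoImplicit false
set_option backward.isDefEq.respectTransparency false
set_option backward.isDefEq.respectTransparency.types false
namespace Groth.Agent.Lib.DescAlg.EtaleFibre
open CategoryTheory Limits AlgebraicGeometry
universe u
variable {X Y : Scheme.{u}} (f : X ⟶ Y)

theorem residueFieldMap_etale [Etale f] (x : X) : (f.residueFieldMap x).hom.Etale := by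
  algebraize [(f.stalkMap x).hom]
  have : IsLocalHom (algebraMap (Y.presheaf.stalk (f x)) (X.presheaf.stalk x)) :=
    inferInstanceAs <| IsLocalHom (f.stalkMap x).hom
  have : Algebra.EssFiniteType (Y.presheaf.stalk (f x)) (X.presheaf.stalk x) := by
    rw [← RingHom.essFiniteType_algebraMap, RingHom.algebraMap_toAlgebra]
    exact LocallyOfFiniteType.stalkMap f x
  have : Algebra.FormallyUnramified (Y.presheaf.stalk (f x)) (X.presheaf.stalk x) := by
    rw [← RingHom.formallyUnramified_algebraMap, RingHom.algebraMap_toAlgebra]
    exact FormallyUnramified.stalkMap f x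
  let := (f.residueFieldMap x).hom.toAlgebra
  rw [RingHom.Etale]
  suffices h : Algebra.Etale (IsLocalRing.ResidueField (Y.presheaf.stalk (f x))) (IsLocalRing.ResidueField (X.presheaf.stalk x)) by
    convert! h
    refine Algebra.algebra_ext _ _ fun x ↦ ?_
    obtain ⟨x, rfl⟩ := IsLocalRing.residue_surjective x
    rfl
  let K := IsLocalRing.ResidueField (Y.presheaf.stalk (f x))
  let L := IsLocalRing.ResidueField (X.presheaf.stalk x)
  have : Algebra.IsSeparable K L := inferInstance
  have : Module.Finite K L := inferInstance
  exact { formallyEtale := Algebra.FormallyEtale.of_isSeparable K L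
          finitePresentation := Algebra.FinitePresentation.of_finiteType.mp (inferInstance : Algebra.FiniteType K L) }

theorem fiber_map {U U' V V' : Scheme.{u}} (h : U ⟶ V) (h' : U' ⟶ V') (a : U' ⟶ U)
    (b : V' ⟶ V) [Etale a] [Etale b] (comm : h' ≫ b = a ≫ h) (v' : V')
    (φ : h'.fiber v' ⟶ h.fiber (b v')) (hφ1 : φ ≫ h.fiberι (b v') = h'.fiberι v' ≫ a)
    (hφ2 : φ ≫ h.fiberToSpecResidueField (b v') = h'.fiberToSpecResidueField v' ≫ Spec.map (b.residueFieldMap v')) :
    Etale φ := by
  have : Etale (Spec.map (b.residueFieldMap v')) :=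
    (HasRingHomProperty.Spec_iff (P := @Etale)).2 (residueFieldMap_etale b v')
  let ψ : U' ⟶ pullback h b := pullback.lift a h' comm.symm
  have hψ : Etale ψ := by
    have : Etale (ψ ≫ pullback.fst h b) := by rw [pullback.lift_fst]; infer_instance
    exact Etale.of_comp ψ (pullback.fst h b)
  have sq := isPullback_fiberToSpecResidueField_of_isPullback (IsPullback.of_hasPullback h b) v'
  let μ := pullback.map (pullback.snd h b) (V'.fromSpecResidueField v') h (V.fromSpecResidueField (b v')) (pullback.fst h b) (Spec.map (b.residueFieldMap v')) b pullback.condition.symm (by simp)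
  have hμ : Etale μ := MorphismProperty.of_isPullback sq.flip inferInstance
  let ν : h'.fiber v' ⟶ (pullback.snd h b).fiber v' := pullback.lift (h'.fiberι v' ≫ ψ) (h'.fiberToSpecResidueField v') (by
    rw [Category.assoc, pullback.lift_snd]; exact pullback.condition)
  have hν : Etale ν := by
    refine MorphismProperty.of_isPullback (P := @Etale) (g' := ν) (f' := h'.fiberι v') (f := pullback.fst _ _) (g := ψ) ?_ hψ
    refine IsPullback.of_bot ?_ (pullback.lift_fst _ _ _).symm (IsPullback.of_hasPullback (pullback.snd h b) (V'.fromSpecResidueField v'))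
    rw [pullback.lift_snd, pullback.lift_snd]
    exact IsPullback.of_hasPullback h' (V'.fromSpecResidueField v')
  have e : φ = ν ≫ μ := by
    apply pullback.hom_ext
    · refine hφ1.trans ?_
      erw [Category.assoc, pullback.lift_fst, pullback.lift_fst_assoc, Category.assoc, pullback.lift_fst]
    · refine hφ2.trans ?_
      erw [Category.assoc, pullback.lift_snd, pullback.lift_snd_assoc]
  rw [e]; exact @Etale.etale_comp _ _ ν _ μ hν hμ
end Groth.Agent.Lib.DescAlg.EtaleFibre
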