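import Mathlib.AlgebraicTopology.AlternatingFaceMapComplex
import Mathlib.AlgebraicTopology.CechNerve
import Mathlib.Algebra.Category.Ring.Colimits
import Mathlib.Algebra.Category.Ring.Constructions
import Mathlib.Algebra.Category.Grp.Abelian
import Mathlib.Algebra.Homology.ShortComplex.Ab
import Mathlib.Algebra.Homology.ShortComplex.HomologicalComplex
import Mathlib.Algebra.Category.Grp.Preadditive
import Mathlib.RingTheory.Flat.FaithfullyFlat.Basic
import Mathlib.RingTheory.TensorProduct.Maps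

/-!
The Amitsur complex of a faithfully flat algebra, as the alternating coface complex of the Čech
conerve, is exact in positive degrees.
-/

set_option autoImplicit false
set_option backward.isDefEq.respectTransparency false
set_option backward.isDefEq.respectTransparency.types false

universe u

open CategoryTheory CategoryTheory.Limits
open scoped TensorProduct Simplicial

namespace Groth.Agent.Lib.DescAlg.Amitsur

variable (R A : Type u) [CommRing R] [CommRing A] [Algebra R A]

/-- The arrow `R ⟶ A`. -/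
noncomputable abbrev arr : Arrow CommRingCat.{u} := Arrow.mk (CommRingCat.ofHom (algebraMap R A))

/-- The terms of the Čech conerve. -/
noncomputable abbrev P (n : ℕ) : CommRingCat.{u} :=
  widePushout (CommRingCat.of R) (fun _ : Fin (n + 1) ↦ CommRingCat.of A)
    (fun _ ↦ CommRingCat.ofHom (algebraMap R A))

/-- The structure map. -/
noncomputable abbrev hd (n : ℕ) : CommRingCat.of R ⟶ P R A n :=
  WidePushout.head (fun _ : Fin (n + 1) ↦ CommRingCat.ofHom (algebraMap R A))

noncomputable instance algebraP (n : ℕ) : Algebra R (P R A n) := (hd R A n).hom.toAlgebra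

/-- The coprojections. -/
noncomputable def ι (n : ℕ) (i : Fin (n + 1)) : A →ₐ[R] P R A n :=
  { (WidePushout.ι (fun _ : Fin (n + 1) ↦ CommRingCat.ofHom (algebraMap R A)) i).hom with
    commutes' := fun r ↦ congr($(WidePushout.arrow_ι (fun _ : Fin (n + 1) ↦
      CommRingCat.ofHom (algebraMap R A)) i).hom r) }

variable {R A}

theorem algHom_ext {n : ℕ} {B : Type u} [CommRing B] [Algebra R B] {f g : P R A n →ₐ[R] B}
    (h : ∀ i, f.comp (ι R A n i) = g.comp (ι R A n i)) : f = g := by
  have : CommRingCat.ofHom f.toRingHom = CommRingCat.ofHom g.toRingHom :=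
    WidePushout.hom_ext (fun _ : Fin (n + 1) ↦ CommRingCat.ofHom (algebraMap R A)) _ _
      (fun i ↦ by ext a; exact AlgHom.congr_fun (h i) a)
      (by ext r; exact (f.commutes r).trans (g.commutes r).symm)
  ext x; exact congr($(this).hom x)

variable (R A)

/-- The cofaces. -/
noncomputable def δ (n : ℕ) (i : Fin (n + 2)) : P R A n →ₐ[R] P R A (n + 1) :=
  { ((arr R A).cechConerve.map (SimplexCategory.δ i)).hom with
    commutes' := fun r ↦ by
      have e : hd R A n ≫ (arr R A).cechConerve.map (SimplexCategory.δ i) = hd R A (n + 1) :=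
        WidePushout.head_desc _ _ _ _
      exact congr($(e).hom r) }

theorem δ_comp_ι (n : ℕ) (i : Fin (n + 2)) (j : Fin (n + 1)) :
    (δ R A n i).comp (ι R A n j) = ι R A (n + 1) (i.succAbove j) := by
  ext a
  have e : WidePushout.ι (fun _ : Fin (n + 1) ↦ CommRingCat.ofHom (algebraMap R A)) j ≫
      (arr R A).cechConerve.map (SimplexCategory.δ i) =
      WidePushout.ι (fun _ : Fin (n + 2) ↦ CommRingCat.ofHom (algebraMap R A)) (i.succAbove j) :=
    WidePushout.ι_desc _ _ _ _ _
  exact congr($(e).hom a)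

/-- `A ⊗ P n → P (n + 1)`. -/
noncomputable def σ (n : ℕ) : A ⊗[R] P R A n →ₐ[R] P R A (n + 1) :=
  Algebra.TensorProduct.lift (ι R A (n + 1) 0) (δ R A n 0) (fun _ _ ↦ Commute.all _ _)

theorem σ_tmul (n : ℕ) (a : A) (y : P R A n) :
    σ R A n (a ⊗ₜ y) = ι R A (n + 1) 0 a * δ R A n 0 y :=
  Algebra.TensorProduct.lift_tmul _ _ _ _ _

theorem σ_comp_left (n : ℕ) :
    (σ R A n).comp Algebra.TensorProduct.includeLeft = ι R A (n + 1) 0 := by
  ext a; simp [σ_tmul]

theorem σ_comp_right (n : ℕ) :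
    (σ R A n).comp Algebra.TensorProduct.includeRight = δ R A n 0 := by
  ext y; simp [σ_tmul]

/-- The values of the inverse of `σ` on the generators. -/
noncomputable def gen (n : ℕ) : Fin (n + 2) → (A →ₐ[R] A ⊗[R] P R A n) :=
  Fin.cases Algebra.TensorProduct.includeLeft
    (fun j ↦ Algebra.TensorProduct.includeRight.comp (ι R A n j))

/-- The inverse of `σ`, as a morphism. -/
noncomputable def τhom (n : ℕ) : P R A (n + 1) ⟶ CommRingCat.of (A ⊗[R] P R A n) :=
  WidePushout.desc (CommRingCat.ofHom (algebraMap R (A ⊗[R] P R A n)))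
    (fun j ↦ CommRingCat.ofHom (gen R A n j).toRingHom)
    (fun j ↦ by ext r; exact (gen R A n j).commutes r)

theorem ι_τhom (n : ℕ) (j : Fin (n + 2)) :
    WidePushout.ι (fun _ : Fin (n + 2) ↦ CommRingCat.ofHom (algebraMap R A)) j ≫ τhom R A n =
      CommRingCat.ofHom (gen R A n j).toRingHom :=
  WidePushout.ι_desc _ _ _ _ _

theorem hd_τhom (n : ℕ) :
    hd R A (n + 1) ≫ τhom R A n = CommRingCat.ofHom (algebraMap R (A ⊗[R] P R A n)) :=
  WidePushout.head_desc _ _ _ _

/-- The inverse of `σ`. -/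
noncomputable def τ (n : ℕ) : P R A (n + 1) →ₐ[R] A ⊗[R] P R A n :=
  { (τhom R A n).hom with commutes' := fun r ↦ congr($(hd_τhom R A n).hom r) }

theorem τ_comp_ι (n : ℕ) (j : Fin (n + 2)) :
    (τ R A n).comp (ι R A (n + 1) j) = gen R A n j := by
  ext a; exact congr($(ι_τhom R A n j).hom a)

theorem σ_τ (n : ℕ) : (σ R A n).comp (τ R A n) = AlgHom.id R _ := by
  refine algHom_ext fun j ↦ ?_
  rw [AlgHom.comp_assoc, AlgHom.id_comp]
  refine Fin.cases ?_ (fun j ↦ ?_) j
  · rw [τ_comp_ι, gen, Fin.cases_zero, σ_comp_left]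
  · rw [τ_comp_ι, gen, Fin.cases_succ, ← AlgHom.comp_assoc, σ_comp_right,
      δ_comp_ι, Fin.succAbove_zero]

theorem τ_σ (n : ℕ) : (τ R A n).comp (σ R A n) = AlgHom.id R _ := by
  refine Algebra.TensorProduct.ext ?_ ?_
  · rw [AlgHom.comp_assoc, σ_comp_left, τ_comp_ι, gen, Fin.cases_zero]
    rfl
  · show ((τ R A n).comp (σ R A n)).comp Algebra.TensorProduct.includeRight = _
    rw [AlgHom.comp_assoc, σ_comp_right]
    refine algHom_ext fun j ↦ ?_
    rw [AlgHom.comp_assoc, δ_comp_ι, Fin.succAbove_zero, τ_comp_ι, gen, Fin.cases_succ]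
    rfl

theorem σ_injective (n : ℕ) : Function.Injective (σ R A n) :=
  Function.LeftInverse.injective (g := τ R A n) (AlgHom.congr_fun (τ_σ R A n))

theorem σ_surjective (n : ℕ) : Function.Surjective (σ R A n) :=
  Function.RightInverse.surjective (g := τ R A n) (AlgHom.congr_fun (σ_τ R A n))

/-- The differential. -/
noncomputable def D (n : ℕ) : P R A n →ₗ[R] P R A (n + 1) :=
  ∑ i : Fin (n + 2), (-1 : ℤ) ^ (i : ℕ) • (δ R A n i).toLinearMap

theorem δ_δ_zero (n : ℕ) (i : Fin (n + 2)) (y : P R A n) :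
    δ R A (n + 1) 0 (δ R A n i y) = δ R A (n + 1) i.succ (δ R A n 0 y) := by
  refine AlgHom.congr_fun (φ₁ := (δ R A (n + 1) 0).comp (δ R A n i))
    (φ₂ := (δ R A (n + 1) i.succ).comp (δ R A n 0)) (algHom_ext fun j ↦ ?_) y
  simp only [AlgHom.comp_assoc, δ_comp_ι, Fin.succAbove_zero, Fin.succ_succAbove_succ]

theorem δ_succ_ι_zero (n : ℕ) (i : Fin (n + 2)) (a : A) :
    δ R A (n + 1) i.succ (ι R A (n + 1) 0 a) = ι R A (n + 2) 0 a := by
  refine (AlgHom.congr_fun (δ_comp_ι R A (n + 1) i.succ 0) a).trans ?_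
  rw [Fin.succ_succAbove_zero]

theorem exists_of_D_eq_zero [Module.FaithfullyFlat R A] (n : ℕ) (x : P R A (n + 1))
    (hx : D R A (n + 1) x = 0) : ∃ y, D R A n y = x := by
  suffices x ∈ LinearMap.range (D R A n) from this
  rw [← Submodule.Quotient.mk_eq_zero]
  refine (Module.FaithfullyFlat.one_tmul_eq_zero_iff R _ (A := A) _).1 ?_
  obtain ⟨t, ht⟩ := σ_surjective R A n x
  suffices h : LinearMap.lTensor A (D R A n) t = (1 : A) ⊗ₜ[R] x by
    have h' := congrArg (LinearMap.lTensor A (LinearMap.range (D R A n)).mkQ) h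
    rw [← LinearMap.lTensor_comp_apply, LinearMap.range_mkQ_comp, LinearMap.lTensor_zero,
      LinearMap.zero_apply, LinearMap.lTensor_tmul] at h'
    exact h'.symm
  apply σ_injective R A (n + 1)
  have key : ∀ t, σ R A (n + 1) (LinearMap.lTensor A (D R A n) t) =
      ∑ i : Fin (n + 2), (-1 : ℤ) ^ (i : ℕ) • δ R A (n + 1) i.succ (σ R A n t) := by
    intro t
    induction t using TensorProduct.induction_on with
    | zero => simp
    | add a b ha hb => simp [ha, hb, Finset.sum_add_distrib]
    | tmul a y =>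
      simp only [LinearMap.lTensor_tmul, D, LinearMap.sum_apply, TensorProduct.tmul_sum, map_sum]
      refine Finset.sum_congr rfl fun i _ ↦ ?_
      rw [LinearMap.smul_apply, AlgHom.toLinearMap_apply, TensorProduct.tmul_smul, map_zsmul,
        σ_tmul, σ_tmul, map_mul, δ_succ_ι_zero, δ_δ_zero]
  rw [key, ht, σ_tmul, map_one, one_mul]
  rw [D, LinearMap.sum_apply, Fin.sum_univ_succ] at hx
  simp only [LinearMap.smul_apply, AlgHom.toLinearMap_apply, Fin.val_zero, pow_zero, one_smul,
    Fin.val_succ, pow_succ, mul_neg_one, neg_smul, LinearMap.neg_apply, Finset.sum_neg_distrib,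
    add_neg_eq_zero] at hx
  exact hx.symm

theorem exactAt [Module.FaithfullyFlat R A] (n : ℕ) :
    (AlgebraicTopology.AlternatingCofaceMapComplex.obj
      ((arr R A).cechConerve ⋙ forget₂ CommRingCat RingCat ⋙
        forget₂ RingCat AddCommGrpCat)).ExactAt (n + 1) := by
  have hd : ∀ m (x : P R A m), (AlgebraicTopology.AlternatingCofaceMapComplex.objD
      ((arr R A).cechConerve ⋙ forget₂ CommRingCat RingCat ⋙
        forget₂ RingCat AddCommGrpCat) m).hom x = D R A m x := by
    intro m x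
    simp only [AlgebraicTopology.AlternatingCofaceMapComplex.objD, D, LinearMap.sum_apply]
    erw [show ∀ {ι : Type} (s : Finset ι) {M N : AddCommGrpCat.{u}} (f : ι → (M ⟶ N)),
        (∑ i ∈ s, f i).hom = ∑ i ∈ s, (f i).hom from fun s M N f ↦
          map_sum (AddCommGrpCat.homAddEquiv (M := M) (N := N)) f s, AddMonoidHom.finsetSum_apply]
    rfl
  rw [HomologicalComplex.exactAt_iff' _ n (n + 1) (n + 2) (by simp) (by simp),
    ShortComplex.ab_exact_iff]
  intro x hx
  have e1 : (AlgebraicTopology.AlternatingCofaceMapComplex.objD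
      ((arr R A).cechConerve ⋙ forget₂ CommRingCat RingCat ⋙
        forget₂ RingCat AddCommGrpCat) (n + 1)).hom x = 0 := by
    refine Eq.trans ?_ hx
    exact (congr($(CochainComplex.of_d (fun m ↦ ((arr R A).cechConerve ⋙ forget₂ CommRingCat RingCat ⋙
      forget₂ RingCat AddCommGrpCat).obj ⦋m⦌) _ (n + 1)).hom x)).symm
  obtain ⟨y, hy⟩ := exists_of_D_eq_zero R A n x ((hd (n + 1) x).symm.trans e1)
  refine ⟨y, ?_⟩
  refine Eq.trans ?_ ((hd n y).trans hy)
  exact congr($(CochainComplex.of_d (fun m ↦ ((arr R A).cechConerve ⋙ forget₂ CommRingCat RingCat ⋙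
      forget₂ RingCat AddCommGrpCat).obj ⦋m⦌) _ n).hom y)

end Groth.Agent.Lib.DescAlg.Amitsur
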