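import Mathlib.AlgebraicGeometry.Morphisms.UnderlyingMap
import Mathlib.AlgebraicGeometry.PullbackCarrier
import Mathlib.AlgebraicGeometry.Morphisms.UniversallyOpen

/-!
Dominant morphisms and base change.
-/

set_option autoImplicit false

universe u

open CategoryTheory CategoryTheory.Limits AlgebraicGeometry

namespace Groth.Agent.Lib.DescAlg.Dominant

theorem range_snd {X Y Y' : Scheme.{u}} (f : X ⟶ Y) (g : Y' ⟶ Y) :
    Set.range (pullback.snd f g) = g ⁻¹' Set.range f :=
  Scheme.Pullback.range_snd f g

/-- Dominance is stable under base change along open maps. -/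
theorem isDominant_snd_of_isOpenMap {X Y Y' : Scheme.{u}} (f : X ⟶ Y) (g : Y' ⟶ Y)
    (hg : IsOpenMap g) (hf : IsDominant f) : IsDominant (pullback.snd f g) := by
  refine ⟨?_⟩
  show Dense (Set.range (pullback.snd f g))
  rw [range_snd]
  exact hf.denseRange.preimage hg

/-- A morphism is dominant if its base changes along a jointly surjective family are. -/
theorem isDominant_of_forall {X Y : Scheme.{u}} (f : X ⟶ Y)
    (h : ∀ y : Y, ∃ (U : Scheme.{u}) (g : U ⟶ Y), y ∈ Set.range g ∧
      IsDominant (pullback.snd f g)) : IsDominant f := by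
  refine ⟨?_⟩
  show Dense (Set.range f)
  intro y
  obtain ⟨U, g, ⟨u, rfl⟩, hd⟩ := h y
  have hu : u ∈ closure (g ⁻¹' Set.range f) := by
    rw [← range_snd]
    exact hd.denseRange u
  exact closure_mono (Set.image_preimage_subset g _)
    (image_closure_subset_closure_image g.continuous ⟨u, hu, rfl⟩)

end Groth.Agent.Lib.DescAlg.Dominant
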