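import Mathlib.RingTheory.MvPolynomial.Basic
import Mathlib.Algebra.MvPolynomial.Funext
import Mathlib.Algebra.Polynomial.Roots
import Mathlib.Algebra.CharP.Algebra
import Mathlib.Algebra.CharP.Reduced
import Mathlib.FieldTheory.Finite.Basic
import Mathlib.RingTheory.Spectrum.Prime.Topology

/-!
# Zero sets stable under elementary automorphisms

An ideal of a polynomial ring whose zeros are stable under all `x_i ↦ x_i + x_j ^ d` and which has
a zero with a coordinate of infinitely many powers is zero.
-/

set_option autoImplicit false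

universe u

open MvPolynomial

namespace Groth.Agent.Lib.DescAlg.ElemAut

variable {k : Type u} [Field k] {n : ℕ}

/-- The elementary automorphism `x_i ↦ x_i + x_j ^ d`. -/
noncomputable def elemHom (i j : Fin n) (d : ℕ) : MvPolynomial (Fin n) k →ₐ[k] MvPolynomial (Fin n) k :=
  aeval (Function.update X i (X i + X j ^ d))

theorem aeval_comp_elemHom {A : Type u} [CommRing A] [Algebra k A] (a : Fin n → A) (i j : Fin n) (d : ℕ) :
    (aeval a).comp (elemHom (k := k) i j d) = aeval (Function.update a i (a i + a j ^ d)) := by
  apply algHom_ext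
  intro l
  rw [elemHom, AlgHom.comp_apply, aeval_X, aeval_X]
  rcases eq_or_ne l i with rfl | hl
  · simp
  · simp [Function.update_of_ne hl]

variable (I : Ideal (MvPolynomial (Fin n) k))

/-- Stability of the zeros of `I` in domains. -/
def Stable : Prop :=
  ∀ (A : Type u) [CommRing A] [IsDomain A] [Algebra k A] (a : Fin n → A) (i j : Fin n) (d : ℕ),
    i ≠ j → (∀ f ∈ I, aeval a f = 0) → ∀ f ∈ I, aeval (Function.update a i (a i + a j ^ d)) f = 0

theorem stable_of_comap (h : ∀ (x : PrimeSpectrum (MvPolynomial (Fin n) k)) (i j : Fin n) (d : ℕ),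
    i ≠ j → I ≤ x.asIdeal → I ≤ x.asIdeal.comap (elemHom i j d).toRingHom) : Stable I := by
  intro A _ _ _ a i j d hij ha f hf
  have := h ⟨RingHom.ker (aeval a).toRingHom, RingHom.ker_isPrime _⟩ i j d hij (fun g hg => ha g hg) hf
  rw [← aeval_comp_elemHom]
  exact this

variable {I}

theorem eq_zero_of_infinite (hshift : Stable I) {A : Type u} [CommRing A] [IsDomain A] [Algebra k A]
    (a : Fin n → A) (i j : Fin n) (hij : i ≠ j) (ha : ∀ f ∈ I, aeval a f = 0)
    (hinf : CharZero A ∨ Function.Injective fun d : ℕ => a j ^ d) (t : A) (f : MvPolynomial (Fin n) k)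
    (hf : f ∈ I) : aeval (Function.update a i t) f = 0 := by
  let g : Polynomial A := MvPolynomial.aeval (Function.update (fun l => Polynomial.C (a l)) i Polynomial.X) f
  have hev : ∀ s : A, g.eval s = MvPolynomial.aeval (Function.update a i s) f := by
    intro s
    have : ((Polynomial.aeval s : Polynomial A →ₐ[A] A).restrictScalars k).comp
        (MvPolynomial.aeval (Function.update (fun l => Polynomial.C (a l)) i Polynomial.X)) =
        MvPolynomial.aeval (Function.update a i s) := by
      apply MvPolynomial.algHom_ext
      intro l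
      rcases eq_or_ne l i with rfl | hl
      · simp
      · simp [Function.update_of_ne hl]
    rw [← this]
    simp [g]
  suffices g = 0 by rw [← hev, this, Polynomial.eval_zero]
  apply Polynomial.eq_zero_of_infinite_isRoot
  rcases hinf with h0 | h0
  · have : ∀ m : ℕ, ∀ f ∈ I, MvPolynomial.aeval (Function.update a i (a i + (m : A))) f = 0 := by
      intro m
      induction m with
      | zero => simpa using ha
      | succ m ih =>
        have := hshift A _ i j 0 hij ih
        simpa [add_assoc] using this
    refine Set.infinite_of_injective_forall_mem (f := fun m : ℕ => a i + (m : A))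
      (fun m m' h => Nat.cast_injective (add_left_cancel h)) fun m => ?_
    show g.IsRoot _
    rw [Polynomial.IsRoot, hev]
    exact this m f hf
  · refine Set.infinite_of_injective_forall_mem (f := fun d : ℕ => a i + a j ^ d)
      (fun m m' h => h0 (add_left_cancel h)) fun d => ?_
    show g.IsRoot _
    rw [Polynomial.IsRoot, hev]
    exact hshift A a i j d hij ha f hf

theorem map_zero' {A B : Type u} [CommRing A] [CommRing B] [Algebra k A] [Algebra k B] (ψ : A →ₐ[k] B)
    (a : Fin n → A) (ha : ∀ f ∈ I, aeval a f = 0) : ∀ f ∈ I, aeval (fun l => ψ (a l)) f = 0 := by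
  intro f hf
  rw [← comp_aeval_apply, ha f hf, map_zero]

theorem eq_bot (hshift : Stable I) (hn : 2 ≤ n) {A : Type u} [CommRing A] [IsDomain A] [Algebra k A]
    (a : Fin n → A) (ha : ∀ f ∈ I, aeval a f = 0) (j : Fin n)
    (hj' : CharZero A ∨ Function.Injective fun d : ℕ => a j ^ d) : I = ⊥ := by
  classical
  haveI : Nontrivial (Fin n) := Fin.nontrivial_iff_two_le.2 hn
  obtain ⟨i, hij⟩ := exists_ne j
  have key : ∀ s : Finset (Fin n), ∀ (B : Type u) [CommRing B] [IsDomain B] [Algebra k B] (ι : A →ₐ[k] B),
      Function.Injective ι → ∀ b : Fin n → B, (∀ l ∉ insert i s, b l = ι (a l)) →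
      ∀ f ∈ I, MvPolynomial.aeval b f = 0 := by
    intro s
    induction s using Finset.induction with
    | empty =>
      intro B _ _ _ ι hι b hb
      have h1 : ∀ f ∈ I, MvPolynomial.aeval (fun l => ι (a l)) f = 0 := map_zero' ι a ha
      have h2 := eq_zero_of_infinite hshift (fun l => ι (a l)) i j hij h1 (hj'.imp
        (fun h => by haveI := h; exact charZero_of_injective_ringHom (f := ι.toRingHom) hι)
        (fun h m m' e => h (hι (by simpa using e)))) (b i)
      convert h2 using 6
      funext l
      rcases eq_or_ne l i with rfl | hl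
      · simp
      · simp [Function.update_of_ne hl, hb l (by simpa using hl)]
    | insert l s hls ih =>
      intro B _ _ _ ι hι b hb f hf
      by_cases hli : l = i
      · exact ih B ι hι b (fun m hm => hb m (by simp_all)) f hf
      let ι' : A →ₐ[k] Polynomial B := (IsScalarTower.toAlgHom k B (Polynomial B)).comp ι
      have hι' : Function.Injective ι' := fun p q e => hι (Polynomial.C_injective e)
      let c : Fin n → Polynomial B := Function.update (Function.update (fun m => Polynomial.C (b m)) i Polynomial.X) l (ι' (a l))
      have hc := ih (Polynomial B) ι' hι' c (fun m hm => by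
        rcases eq_or_ne m l with rfl | hml
        · simp [c]
        · have hmi : m ≠ i := fun h => hm (by simp [h])
          simp only [c, Function.update_of_ne hml, Function.update_of_ne hmi]
          rw [hb m (by simp_all)]
          rfl)
      have hci : c i = Polynomial.X := by
        simp [c, Function.update_of_ne (Ne.symm hli)]
      have h3 := eq_zero_of_infinite hshift c l i hli hc (Or.inr (by
        rw [hci]
        intro m m' e
        simpa using congrArg Polynomial.natDegree e)) (Polynomial.C (b l))
      have h4 := map_zero' ((Polynomial.aeval (b i) : Polynomial B →ₐ[B] B).restrictScalars k) _ h3 f hf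
      convert h4 using 4
      rename_i m
      rcases eq_or_ne m l with rfl | hml
      · simp
      · rcases eq_or_ne m i with rfl | hmi
        · simp [c, Function.update_of_ne hml]
        · simp [c, Function.update_of_ne hml, Function.update_of_ne hmi]
  rw [eq_bot_iff]
  intro f hf
  have h5 := key Finset.univ (MvPolynomial (Fin n) A) (IsScalarTower.toAlgHom k A (MvPolynomial (Fin n) A))
    (MvPolynomial.C_injective _ _) MvPolynomial.X (fun l hl => absurd (by simp) hl) f hf
  rw [Ideal.mem_bot]
  apply MvPolynomial.map_injective (algebraMap k A) (algebraMap k A).injective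
  rw [map_zero, ← h5]
  have : MvPolynomial.aeval (MvPolynomial.X : Fin n → MvPolynomial (Fin n) A) =
      (MvPolynomial.mapAlgHom (Algebra.ofId k A) : MvPolynomial (Fin n) k →ₐ[k] MvPolynomial (Fin n) A) :=
    MvPolynomial.algHom_ext fun l => by simp
  rw [this]
  rfl


theorem exists_pow_pow_eq {A : Type u} [CommRing A] [IsDomain A] (p : ℕ) [hp : Fact p.Prime] [CharP A p] (b : A)
    (hnj : ¬ Function.Injective fun d : ℕ => b ^ d) : ∃ m : ℕ, 0 < m ∧ b ^ p ^ m = b := by
  have hpp := hp.out
  rcases eq_or_ne b 0 with rfl | hb0
  · exact ⟨1, one_pos, zero_pow (pow_ne_zero _ hpp.ne_zero)⟩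
  simp only [Function.Injective] at hnj
  push Not at hnj
  obtain ⟨u, v, huv, hne⟩ := hnj
  wlog hlt : u < v generalizing u v
  · exact this v u huv.symm hne.symm (lt_of_le_of_ne (not_lt.1 hlt) hne.symm)
  have hfin : IsOfFinOrder b := by
    refine isOfFinOrder_iff_pow_eq_one.2 ⟨v - u, by omega, ?_⟩
    refine mul_left_cancel₀ (pow_ne_zero u hb0) ?_
    rw [← pow_add, Nat.add_sub_cancel' hlt.le, mul_one, huv]
  have hr := hfin.orderOf_pos
  have hcop : Nat.Coprime p (orderOf b) := by
    refine hpp.coprime_iff_not_dvd.2 ?_
    rintro ⟨c, hc⟩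
    have h1 : (b ^ c) ^ p = 1 := by rw [← pow_mul, mul_comm, ← hc, pow_orderOf_eq_one]
    have h2 : b ^ c = 1 := frobenius_inj _ p (by simpa [frobenius_def] using h1)
    have h3 : orderOf b ∣ c := orderOf_dvd_of_pow_eq_one h2
    have h4 := Nat.le_of_dvd (Nat.pos_of_ne_zero (by rintro rfl; rw [mul_zero] at hc; omega)) h3
    have := hpp.two_le
    nlinarith
  refine ⟨Nat.totient (orderOf b), Nat.totient_pos.2 hr, ?_⟩
  have e := Nat.ModEq.pow_totient hcop
  generalize p ^ Nat.totient (orderOf b) = q at e ⊢
  unfold Nat.ModEq at e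
  rw [← pow_mod_orderOf, e, pow_mod_orderOf, pow_one]

end Groth.Agent.Lib.DescAlg.ElemAut
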