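import Mathlib.RingTheory.Finiteness.Descent
import Mathlib.RingTheory.Finiteness.ModuleFinitePresentation
import Mathlib.RingTheory.Finiteness.Projective
import Mathlib.LinearAlgebra.TensorProduct.Pi
import Mathlib.RingTheory.Flat.FaithfullyFlat.Algebra
import Mathlib.RingTheory.Flat.Basic
import Mathlib.RingTheory.Spectrum.Prime.Topology

/-! Finite presentation of modules descends along finite jointly surjective flat families. -/

open TensorProduct

universe u

namespace Groth.Agent.Lib.DescAlg.FPDescent64

theorem finitePresentation_of_faithfullyFlat {A B : Type u} [CommRing A] [CommRing B] [Algebra A B]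
    [Module.FaithfullyFlat A B] (M : Type u) [AddCommGroup M] [Module A M]
    [Module.FinitePresentation B (B ⊗[A] M)] : Module.FinitePresentation A M := by
  have : Module.Finite A M := Module.Finite.of_finite_tensorProduct_of_faithfullyFlat B
  obtain ⟨n, f, hf⟩ := Module.Finite.exists_fin' A M
  refine Module.finitePresentation_of_surjective f hf ?_
  rw [← Module.Finite.iff_fg]
  let fB := AlgebraTensorModule.lTensor B B f
  have hfB : Function.Surjective fB := LinearMap.lTensor_surjective B hf
  have hk : (LinearMap.ker fB).FG := Module.FinitePresentation.fg_ker fB hfB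
  let ι := AlgebraTensorModule.lTensor B B (LinearMap.ker f).subtype
  have hι : Function.Injective ι :=
    Module.Flat.lTensor_preserves_injective_linearMap _ Subtype.val_injective
  have hr : LinearMap.range ι = LinearMap.ker fB := by
    have hex : Function.Exact ((LinearMap.ker f).subtype.lTensor B) (f.lTensor B) :=
      lTensor_exact B (LinearMap.exact_subtype_ker_map f) hf
    ext x
    exact (hex x).symm
  have : Module.Finite B (B ⊗[A] LinearMap.ker f) := by
    have : Module.Finite B (LinearMap.range ι) := by rw [hr]; exact Module.Finite.iff_fg.2 hk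
    exact Module.Finite.equiv (LinearEquiv.ofInjective ι hι).symm
  exact Module.Finite.of_finite_tensorProduct_of_faithfullyFlat B

variable {ι : Type} [Fintype ι] [DecidableEq ι]

theorem finitePresentation_pi {B : Type u} [CommRing B] :
    ∀ (n : ℕ) (Q : Fin n → Type u) [∀ j, AddCommGroup (Q j)] [∀ j, Module B (Q j)],
      (∀ j, Module.FinitePresentation B (Q j)) → Module.FinitePresentation B (∀ j, Q j)
  | 0, Q, _, _, _ => Module.finitePresentation_of_projective B _
  | n + 1, Q, _, _, h => by
      have := finitePresentation_pi n (fun j => Q j.succ) (fun j => h j.succ)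
      have := h 0
      let e : (Q 0 × ∀ j : Fin n, Q j.succ) ≃ₗ[B] ∀ j, Q j :=
        { Fin.consEquiv Q with
          map_add' := fun x y => funext fun j => by refine Fin.cases ?_ ?_ j <;> simp [Fin.consEquiv]
          map_smul' := fun c x => funext fun j => by refine Fin.cases ?_ ?_ j <;> simp [Fin.consEquiv] }
      exact Module.FinitePresentation.of_equiv e

theorem finitePresentation_of_cover {A : Type u} [CommRing A] {n : ℕ} (S : Fin n → Type u)
    [∀ j, CommRing (S j)] [∀ j, Algebra A (S j)] [∀ j, Module.Flat A (S j)]
    (hsurj : ∀ p : PrimeSpectrum A, ∃ j q, PrimeSpectrum.comap (algebraMap A (S j)) q = p)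
    (N : Type u) [AddCommGroup N] [Module A N]
    (h : ∀ j, Module.FinitePresentation (S j) (S j ⊗[A] N)) :
    Module.FinitePresentation A N := by
  have : Module.Flat A (∀ j, S j) :=
    Module.Flat.of_linearEquiv (DFinsupp.linearEquivFunOnFintype (R := A) (M := S)).symm
  have : Module.FaithfullyFlat A (∀ j, S j) := by
    refine Module.FaithfullyFlat.of_comap_surjective (fun p => ?_)
    obtain ⟨j, q, hq⟩ := hsurj p
    exact ⟨PrimeSpectrum.comap (Pi.evalRingHom S j) q, hq⟩
  let : ∀ j, Algebra (∀ j, S j) (S j) := fun j => (Pi.evalRingHom S j).toAlgebra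
  have : ∀ j, IsScalarTower A (∀ j, S j) (S j) := fun j =>
    IsScalarTower.of_algebraMap_eq fun a => rfl
  let B := ∀ j, S j
  let P := B ⊗[A] N
  have hS : ∀ j, Module.Finite B (S j) ∧ Module.Projective B (S j) := fun j => by
    refine ⟨Module.Finite.of_surjective (Algebra.linearMap B (S j))
      (fun x => ⟨Pi.single j x, Pi.single_eq_same j x⟩), ?_⟩
    refine Module.Projective.of_split (P := S j) (M := B)
      { toFun := fun x => Pi.single j x
        map_add' := fun x y => Pi.single_add (f := S) j x y
        map_smul' := fun b x => ?_ }
      { toFun := fun b => b j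
        map_add' := fun _ _ => rfl
        map_smul' := fun b x => rfl } (LinearMap.ext fun x => Pi.single_eq_same j x)
    funext k
    rcases eq_or_ne k j with rfl | hk
    · simp [B, Algebra.smul_def, RingHom.algebraMap_toAlgebra]
    · simp [B, hk, Pi.mul_apply]
  have hP : ∀ j, Module.FinitePresentation B (S j ⊗[B] P) := fun j => by
    have := (hS j).1
    have := (hS j).2
    have : Module.FinitePresentation B (S j) := Module.finitePresentation_of_projective B (S j)
    have := h j
    have : Module.FinitePresentation (S j) (S j ⊗[B] P) :=
      Module.FinitePresentation.of_equiv (AlgebraTensorModule.cancelBaseChange A B (S j) (S j) N).symm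
    exact Module.FinitePresentation.trans B _ (S j)
  have : Module.FinitePresentation B P := by
    have := finitePresentation_pi n (fun j => S j ⊗[B] P) hP
    exact Module.FinitePresentation.of_equiv
      ((TensorProduct.rid B P).symm ≪≫ₗ
        TensorProduct.congr (LinearEquiv.refl _ P)
          ({ toFun := id, invFun := id, left_inv := fun _ => rfl, right_inv := fun _ => rfl,
             map_add' := fun _ _ => rfl, map_smul' := fun _ _ => rfl } : B ≃ₗ[B] ∀ j, S j) ≪≫ₗ
        TensorProduct.piRight B B P S ≪≫ₗ
        LinearEquiv.piCongrRight fun j => TensorProduct.comm B P (S j)).symm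
  exact finitePresentation_of_faithfullyFlat (B := B) N

end Groth.Agent.Lib.DescAlg.FPDescent64
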