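import Groth.Agent.Lib.Flat55.GenericPoints
import Mathlib.AlgebraicGeometry.Morphisms.UniversallyInjective
import Mathlib.AlgebraicGeometry.Morphisms.Separated

/-! Flat separated morphisms injective with trivial residue extensions on maximal points are universally injective. -/

set_option backward.isDefEq.respectTransparency false
set_option backward.isDefEq.respectTransparency.types false

open AlgebraicGeometry CategoryTheory CategoryTheory.Limits
universe u
namespace Groth.Agent.Lib.DescAlg.FlatUnivInj
open Groth.Agent.Lib.Flat55

theorem universallyInjective_of_genericPoints {X Y : Scheme.{u}} (f : X ⟶ Y) [Flat f] [IsSeparated f]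
    (h2 : ∀ ξ : X, closure ({ξ} : Set X) ∈ irreducibleComponents (X : Type u) →
      Function.Surjective (f.residueFieldMap ξ).hom)
    (h3 : Set.InjOn f.base {ξ : X | closure ({ξ} : Set X) ∈ irreducibleComponents (X : Type u)}) :
    UniversallyInjective f := by
  rw [UniversallyInjective.iff_diagonal, surjective_iff]
  intro z
  obtain ⟨w, hw, hwz⟩ := GenericPoints.exists_specializes z
  have hcl : IsClosed (Set.range (pullback.diagonal f)) :=
    (pullback.diagonal f).isClosedEmbedding.isClosed_range
  suffices w ∈ Set.range (pullback.diagonal f) from hwz.mem_closed hcl this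
  have m1 : (pullback.fst f f) w ∈ genericPoints X :=
    GenericPoints.map_mem_of_flat (pullback.fst f f) hw
  have m2 : (pullback.snd f f) w ∈ genericPoints X :=
    GenericPoints.map_mem_of_flat (pullback.snd f f) hw
  have he : (pullback.fst f f) w = (pullback.snd f f) w := h3 m1 m2 (by
    rw [← Scheme.Hom.comp_apply, ← Scheme.Hom.comp_apply, pullback.condition])
  generalize hφd : (pullback f f).fromSpecResidueField w = φ
  have key : ∀ (K : Type u) [Field K] (a b : Spec (CommRingCat.of K) ⟶ X),
      a ≫ f = b ≫ f → (∀ s, a s = (pullback.fst f f) w) → (∀ s, b s = (pullback.fst f f) w) →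
      a = b := by
    intro K _ a b hab ha hb
    obtain ⟨⟨x, p⟩, rfl⟩ := (X.SpecToEquivOfField K).symm.surjective a
    obtain ⟨⟨y, q⟩, rfl⟩ := (X.SpecToEquivOfField K).symm.surjective b
    change (Spec.map p ≫ X.fromSpecResidueField x) ≫ f = (Spec.map q ≫ X.fromSpecResidueField y) ≫ f at hab
    change Spec.map p ≫ X.fromSpecResidueField x = Spec.map q ≫ X.fromSpecResidueField y
    change ∀ s, (Spec.map p ≫ X.fromSpecResidueField x) s = _ at ha
    change ∀ s, (Spec.map q ≫ X.fromSpecResidueField y) s = _ at hb
    have hx := ha (IsLocalRing.closedPoint K)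
    have hy := hb (IsLocalRing.closedPoint K)
    simp only [Scheme.Hom.comp_apply, Scheme.fromSpecResidueField_apply] at hx hy
    obtain rfl : x = y := hx.trans hy.symm
    rw [Category.assoc, Category.assoc, ← f.SpecMap_residueFieldMap_fromSpecResidueField,
      ← Spec.map_comp_assoc, ← Spec.map_comp_assoc, cancel_mono] at hab
    have hs : Function.Surjective (f.residueFieldMap x).hom := h2 x (by subst hx; exact m1)
    have : p = q := by
      ext a
      obtain ⟨a, rfl⟩ := hs a
      exact congr($(Spec.map_injective hab).hom a)
    rw [this]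
  have h1 : φ ≫ pullback.fst f f = φ ≫ pullback.snd f f := by
    refine key ((pullback f f).residueField w) _ _ (by simp [pullback.condition]) ?_ ?_
    · intro s; subst hφd; exact congrArg _ ((pullback f f).fromSpecResidueField_apply w s)
    · intro s; subst hφd; exact (congrArg _ ((pullback f f).fromSpecResidueField_apply w s)).trans he.symm
  have h2' : φ = (φ ≫ pullback.fst f f) ≫ pullback.diagonal f := by
    apply pullback.hom_ext <;> simp [h1]
  refine ⟨(φ ≫ pullback.fst f f) (IsLocalRing.closedPoint _), ?_⟩
  rw [← Scheme.Hom.comp_apply, ← h2', ← hφd, Scheme.fromSpecResidueField_apply]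

end Groth.Agent.Lib.DescAlg.FlatUnivInj
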