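import Groth.Agent.Lib.DescAlg.Precov
import Groth.Agent.Lib.DescAlg.FpqcCover
import Mathlib.CategoryTheory.MorphismProperty.Local
import Mathlib.AlgebraicGeometry.Restrict

/-!
Largest open on the source / target where a property which is local for a topology holds.
-/

set_option autoImplicit false
set_option backward.isDefEq.respectTransparency false
set_option backward.isDefEq.respectTransparency.types false

universe u

open CategoryTheory CategoryTheory.Limits AlgebraicGeometry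

namespace Groth.Agent.Lib.DescAlg.LargestOpen

variable (Q P : MorphismProperty Scheme.{u}) [Q.IsStableUnderComposition]
  [Q.IsStableUnderBaseChange]

/-- Hypotheses on the property defining the topology: it contains the open immersions and consists
of open maps. -/
structure IsOpenTop : Prop where
  ofIsOpenImmersion : ∀ {X Y : Scheme.{u}} (f : X ⟶ Y) [IsOpenImmersion f], Q f
  isOpenMap : ∀ {X Y : Scheme.{u}} (f : X ⟶ Y), Q f → IsOpenMap f

variable {Q} (hQ : IsOpenTop Q)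

include hQ in
theorem mem_pair {X U : Scheme.{u}} (g : U ⟶ X) (hg : Q g) :
    ∃ R ∈ Scheme.precoverage Q X, R g := by
  let Us : Option PUnit.{u + 1} → Scheme.{u} := fun o ↦ o.elim X (fun _ ↦ U)
  let gs : ∀ o, Us o ⟶ X := fun o ↦ match o with
    | none => 𝟙 X
    | some _ => g
  refine ⟨Presieve.ofArrows Us gs, Precov.ofArrows_mem Us gs (fun x ↦ ⟨none, x, rfl⟩) ?_, ⟨some ⟨⟩⟩⟩
  rintro (_ | _)
  · exact hQ.ofIsOpenImmersion (𝟙 X)
  · exact hg

include hQ in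
theorem source_comp [P.IsLocalAtSource (Scheme.precoverage Q)] {U X Y : Scheme.{u}} (g : U ⟶ X)
    (hg : Q g) (f : X ⟶ Y) (hf : P f) : P (g ≫ f) := by
  obtain ⟨R, hR, hRg⟩ := mem_pair hQ g hg
  exact MorphismProperty.IsLocalAtSource.comp hR g hRg hf

omit [Q.IsStableUnderComposition] [Q.IsStableUnderBaseChange] in
theorem source_of_forall [P.IsLocalAtSource (Scheme.precoverage Q)] {X Y : Scheme.{u}} (f : X ⟶ Y)
    (h : ∀ x : X, ∃ (U : Scheme.{u}) (g : U ⟶ X), x ∈ Set.range g ∧ Q g ∧ P (g ≫ f)) : P f := by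
  choose U g hx hg hP using h
  refine MorphismProperty.IsLocalAtSource.of_forall_comp
    (Precov.ofArrows_mem U g (fun x ↦ ⟨x, hx x⟩) hg) ?_
  rintro _ _ ⟨x⟩
  exact hP x

include hQ in
theorem exists_largest_source [P.IsLocalAtSource (Scheme.precoverage Q)] {X Y : Scheme.{u}}
    (f : X ⟶ Y) :
    ∃ W : X.Opens, (P (W.ι ≫ f) ∧ ∀ W' : X.Opens, P (W'.ι ≫ f) → W' ≤ W) ∧
      ∀ (X' : Scheme.{u}) (g : X' ⟶ X), Q g → ∀ V : X'.Opens,
        (P (V.ι ≫ g ≫ f) ∧ ∀ V' : X'.Opens, P (V'.ι ≫ g ≫ f) → V' ≤ V) → V = g ⁻¹ᵁ W := by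
  let W : X.Opens := sSup {W' | P (W'.ι ≫ f)}
  have hW : P (W.ι ≫ f) := by
    refine source_of_forall (Q := Q) P _ fun x ↦ ?_
    obtain ⟨W', hW', hxW'⟩ := TopologicalSpace.Opens.mem_sSup.1 x.2
    refine ⟨_, X.homOfLE (show W' ≤ W from le_sSup hW'), ⟨⟨x.1, hxW'⟩, ?_⟩,
      hQ.ofIsOpenImmersion _, ?_⟩
    · exact Subtype.ext congr($(X.homOfLE_ι (show W' ≤ W from le_sSup hW')) ⟨x.1, hxW'⟩)
    · rw [Scheme.homOfLE_ι_assoc]
      exact hW'
  refine ⟨W, ⟨hW, fun W' h ↦ le_sSup h⟩, fun X' g hg V hV ↦ le_antisymm ?_ (hV.2 _ ?_)⟩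
  · let O : X.Opens := ⟨g '' (V : Set X'), hQ.isOpenMap g hg _ V.isOpen⟩
    have e : V ≤ g ⁻¹ᵁ O := fun x hx ↦ ⟨x, hx, rfl⟩
    refine fun x hx ↦ (show O ≤ W from ?_) ⟨x, hx, rfl⟩
    refine le_sSup (source_of_forall (Q := Q) P _ fun y ↦ ?_)
    obtain ⟨z, hz, hzy⟩ := y.2
    refine ⟨_, g.resLE O V e, ⟨⟨z, hz⟩, ?_⟩, ?_, ?_⟩
    · exact Subtype.ext (congr($(g.resLE_comp_ι e) ⟨z, hz⟩).trans hzy)
    · exact Q.comp_mem _ _ (hQ.ofIsOpenImmersion (X'.homOfLE e))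
        (Q.of_isPullback (isPullback_morphismRestrict g O).flip hg)
    · rw [Scheme.Hom.resLE_comp_ι_assoc]
      exact hV.1
  · rw [← morphismRestrict_ι_assoc]
    exact source_comp P hQ _ (Q.of_isPullback (isPullback_morphismRestrict g W).flip hg) _ hW

theorem restrict_iff [P.RespectsIso] {X Y : Scheme.{u}} (f : X ⟶ Y) (W : Y.Opens) :
    P (f ∣_ W) ↔ P (pullback.snd f W.ι) := by
  rw [← pullbackRestrictIsoRestrict_hom_morphismRestrict, P.cancel_left_of_respectsIso]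

include hQ in
theorem target_pullback [P.IsLocalAtTarget (Scheme.precoverage Q)] {U X Y : Scheme.{u}} (g : U ⟶ Y)
    (hg : Q g) (f : X ⟶ Y) (hf : P f) : P (pullback.snd f g) := by
  obtain ⟨R, hR, hRg⟩ := mem_pair hQ g hg
  exact MorphismProperty.IsLocalAtTarget.pullbackSnd hR hRg hf

omit [Q.IsStableUnderComposition] [Q.IsStableUnderBaseChange] in
theorem target_of_forall [P.IsLocalAtTarget (Scheme.precoverage Q)] {X Y : Scheme.{u}} (f : X ⟶ Y)
    (h : ∀ y : Y, ∃ (U : Scheme.{u}) (g : U ⟶ Y), y ∈ Set.range g ∧ Q g ∧ P (pullback.snd f g)) :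
    P f := by
  choose U g hx hg hP using h
  refine MorphismProperty.IsLocalAtTarget.of_forall_pullbackSnd
    (Precov.ofArrows_mem U g (fun x ↦ ⟨x, hx x⟩) hg) ?_
  rintro _ _ _ ⟨x⟩
  exact hP x

include hQ in
theorem exists_largest_target [P.IsLocalAtTarget (Scheme.precoverage Q)] {X Y : Scheme.{u}}
    (f : X ⟶ Y) :
    ∃ W : Y.Opens, P (f ∣_ W) ∧ (∀ W₀ : Y.Opens, P (f ∣_ W₀) → W₀ ≤ W) ∧
      (∀ (Y' : Scheme.{u}) (g : Y' ⟶ Y), Q g →
        P (pullback.snd f g) → Set.range g.base ⊆ (W : Set Y)) ∧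
      (∀ (Y' : Scheme.{u}) (g : Y' ⟶ Y), Q g →
        ∀ W' : Y'.Opens, P (pullback.snd f g ∣_ W') →
          (∀ W₀ : Y'.Opens, P (pullback.snd f g ∣_ W₀) → W₀ ≤ W') → W' = g ⁻¹ᵁ W) := by
  let W : Y.Opens := sSup {W' | P (f ∣_ W')}
  have hW : P (f ∣_ W) := by
    rw [restrict_iff P]
    refine target_of_forall (Q := Q) P _ fun x ↦ ?_
    obtain ⟨W', hW', hxW'⟩ := TopologicalSpace.Opens.mem_sSup.1 x.2
    refine ⟨_, Y.homOfLE (show W' ≤ W from le_sSup hW'), ⟨⟨x.1, hxW'⟩, ?_⟩,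
      hQ.ofIsOpenImmersion _, ?_⟩
    · exact Subtype.ext congr($(Y.homOfLE_ι (show W' ≤ W from le_sSup hW')) ⟨x.1, hxW'⟩)
    · rw [FpqcCover.snd_iff P, Scheme.homOfLE_ι, ← restrict_iff P]
      exact hW'
  have image : ∀ (Y' : Scheme.{u}) (g : Y' ⟶ Y), Q g →
      P (pullback.snd f g) → Set.range g.base ⊆ (W : Set Y) := by
    intro Y' g hg h
    let O : Y.Opens := ⟨Set.range g, (hQ.isOpenMap g hg).isOpen_range⟩
    have e : (⊤ : Y'.Opens) ≤ g ⁻¹ᵁ O := fun x _ ↦ ⟨x, rfl⟩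
    refine (show O ≤ W from ?_)
    refine le_sSup ((restrict_iff P f O).2 (target_of_forall (Q := Q) P _ fun y ↦ ?_))
    obtain ⟨z, hzy⟩ := y.2
    refine ⟨_, Y'.topIso.inv ≫ g.resLE O ⊤ e, ⟨z, ?_⟩, ?_, ?_⟩
    · exact Subtype.ext (congr($(show (Y'.topIso.inv ≫ g.resLE O ⊤ e) ≫ O.ι = g by
        simp) z).trans hzy)
    · exact Q.comp_mem _ _ (hQ.ofIsOpenImmersion _)
        (Q.comp_mem _ _ (hQ.ofIsOpenImmersion (Y'.homOfLE e))
          (Q.of_isPullback (isPullback_morphismRestrict g O).flip hg))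
    · rw [FpqcCover.snd_iff P, show (Y'.topIso.inv ≫ g.resLE O ⊤ e) ≫ O.ι = g by simp]
      exact h
  refine ⟨W, hW, fun W₀ h ↦ le_sSup h, image, fun Y' g hg W' hW' hmax ↦ le_antisymm ?_ ?_⟩
  · rw [restrict_iff P, FpqcCover.snd_iff P] at hW'
    intro x hx
    exact image _ _ (Q.comp_mem _ _ (hQ.ofIsOpenImmersion W'.ι) hg) hW' ⟨⟨x, hx⟩, rfl⟩
  · refine hmax _ ?_
    rw [restrict_iff P, FpqcCover.snd_iff P, ← morphismRestrict_ι, ← FpqcCover.snd_iff P]
    exact target_pullback P hQ _ (Q.of_isPullback (isPullback_morphismRestrict g W).flip hg) _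
      ((restrict_iff P f W).1 hW)

theorem fppf : IsOpenTop (@Flat ⊓ @LocallyOfFinitePresentation : MorphismProperty Scheme.{u}) where
  ofIsOpenImmersion f _ := ⟨inferInstance, inferInstance⟩
  isOpenMap f h := by
    have : Flat f := h.1
    have : LocallyOfFinitePresentation f := h.2
    exact f.isOpenMap

end Groth.Agent.Lib.DescAlg.LargestOpen
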