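import Groth.Agent.Lib.DescAlg.FinProjDescent
import Groth.Agent.Lib.QCoh.Pullback
import Groth.Agent.Lib.Kaehler.LocFree
import Groth.Agent.Lib.TensorMod.FPConv
import Groth.Agent.Lib.TensorMod.LocFree
import Mathlib.AlgebraicGeometry.Morphisms.Flat

/-! Finite local freeness of quasi-coherent modules descends along fpqc coverings. -/

universe u

open CategoryTheory CategoryTheory.Limits AlgebraicGeometry Opposite TopologicalSpace

namespace Groth.Agent.Lib.DescAlg.LocFreeDescent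

open Groth.Agent.Lib

theorem finite_projective_of_iso_freeMod {R : CommRingCat.{u}} (L : ModuleCat.{u} R) {n : ℕ}
    (e : tilde L ≅ FlatMod.freeMod (Spec R) n) :
    Module.Finite R L ∧ Module.Projective R L := by
  obtain ⟨N, hN, hP, ⟨k⟩⟩ := TensorMod.FPConv.exists_tilde_iso_freeMod R n
  let i : L ≅ N := tilde.fullyFaithfulFunctor.preimageIso (e ≪≫ k)
  exact ⟨Module.Finite.equiv i.toLinearEquiv.symm, Module.Projective.of_equiv i.toLinearEquiv.symm⟩

theorem exists_restrict_fromSpec {X : Scheme.{u}} {M : X.Modules} {U W : X.Opens} {n : ℕ}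
    (hW : IsAffineOpen W) (h : W ≤ U) (i : M.restrict U.ι ≅ FlatMod.freeMod (↑U) n) :
    Nonempty (M.restrict hW.fromSpec ≅ FlatMod.freeMod (Spec Γ(X, W)) n) := by
  obtain ⟨j⟩ := TensorMod.LocFree.exists_restrict_iso_freeMod h i
  exact ⟨(Scheme.Modules.restrictFunctorCongr (hW.isoSpec_inv_ι).symm).app M ≪≫
    (Scheme.Modules.restrictFunctorComp hW.isoSpec.inv W.ι).app M ≪≫
    (Scheme.Modules.restrictFunctor hW.isoSpec.inv).mapIso j ≪≫
    TensorMod.LocFree.restrictFreeModIso _ n⟩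

theorem isFinLocFree_of_pullback {X X' : Scheme.{u}} (g : X' ⟶ X) [QuasiCompact g] [Flat g]
    [Surjective g] (F : X.Modules) [F.IsQuasicoherent]
    (h : FlatMod.IsFinLocFree ((Scheme.Modules.pullback g).obj F)) :
    FlatMod.IsFinLocFree F := by
  refine Kaehler.LocFree.isFinLocFree_of_charts F fun x => ?_
  obtain ⟨V, hV, hxV, -⟩ := exists_isAffineOpen_mem_and_subset (X := X) (x := x) (U := ⊤) trivial
  let N : ModuleCat.{u} Γ(X, V) := (QCoh.Tilde.specΓ _).obj (F.restrict hV.fromSpec)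
  have hWex : ∀ y : ↥(g ⁻¹ᵁ V), ∃ (W : X'.Opens) (hW : IsAffineOpen W) (e : W ≤ g ⁻¹ᵁ V),
      (y : X') ∈ W ∧ Module.Finite Γ(X', W)
        ((ModuleCat.extendScalars (g.appLE V W e).hom).obj N) ∧
      Module.Projective Γ(X', W) ((ModuleCat.extendScalars (g.appLE V W e).hom).obj N) := by
    intro y
    obtain ⟨U, n, hyU, ⟨i⟩⟩ := h y
    obtain ⟨W, hW, hyW, hWU⟩ := exists_isAffineOpen_mem_and_subset
      (show (y : X') ∈ U ⊓ g ⁻¹ᵁ V from ⟨hyU, y.2⟩)
    have e : W ≤ g ⁻¹ᵁ V := fun z hz => (hWU hz).2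
    obtain ⟨j⟩ := exists_restrict_fromSpec hW (show W ≤ U from fun z hz => (hWU hz).1) i
    exact ⟨W, hW, e, hyW, finite_projective_of_iso_freeMod _
      ((QCoh.Pullback.restrictPullbackTildeIso g F hV hW e).symm ≪≫ j)⟩
  choose W hW e hmem hfin using hWex
  have hc : IsCompact ((g ⁻¹ᵁ V : X'.Opens) : Set X') :=
    QuasiCompact.isCompact_preimage _ V.2 hV.isCompact
  obtain ⟨t, ht⟩ := hc.elim_finite_subcover (fun y => (W y : Set X')) (fun y => (W y).2)
    (fun z hz => Set.mem_iUnion.2 ⟨⟨z, hz⟩, hmem ⟨z, hz⟩⟩)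
  classical
  let k := t.card
  let c : Fin k → ↥(g ⁻¹ᵁ V) := fun a => (t.equivFin.symm a).1
  let S : Fin k → Type u := fun a => Γ(X', W (c a))
  let alg : ∀ a, Algebra Γ(X, V) (S a) := fun a => (g.appLE V (W (c a)) (e (c a))).hom.toAlgebra
  have hflat : ∀ a, Module.Flat Γ(X, V) (S a) := fun a =>
    HasRingHomProperty.appLE @Flat g inferInstance ⟨V, hV⟩ ⟨W (c a), hW (c a)⟩ (e (c a))
  obtain ⟨hNf, hNp⟩ := FinProjDescent.finite_projective_of_cover S (fun p => by
    obtain ⟨z, hz⟩ := g.surjective (hV.fromSpec p)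
    have hzV : z ∈ g ⁻¹ᵁ V := by
      show g z ∈ (V : Set X)
      rw [hz, ← hV.range_fromSpec]
      exact ⟨p, rfl⟩
    obtain ⟨y, hyt, hzy⟩ := Set.mem_iUnion₂.1 (ht hzV)
    obtain ⟨a, rfl⟩ : ∃ a, c a = y := ⟨t.equivFin ⟨y, hyt⟩, by simp [c]⟩
    obtain ⟨q, hq⟩ : z ∈ Set.range (hW (c a)).fromSpec := by
      rw [(hW (c a)).range_fromSpec]; exact hzy
    refine ⟨a, q, hV.fromSpec.isOpenEmbedding.injective ?_⟩
    show hV.fromSpec (Spec.map (g.appLE V (W (c a)) (e (c a))) q) = _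
    rw [← Scheme.Hom.comp_apply, IsAffineOpen.SpecMap_appLE_fromSpec g hV (hW (c a)) (e (c a)),
      Scheme.Hom.comp_apply, hq, hz]) N (fun a => hfin (c a))
  exact Kaehler.LocFree.exists_free_restrict hV N (QCoh.Tilde.isoTildeSections _).symm hxV

end Groth.Agent.Lib.DescAlg.LocFreeDescent
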