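import Groth.Prelude.Def_Flat
import Groth.Agent.Lib.AlgSpace.Props
import Mathlib.Topology.KrullDimension
import Mathlib.Topology.Sober
import Mathlib.Topology.DiscreteSubset
import Mathlib.AlgebraicGeometry.Morphisms.QuasiFinite
import Mathlib.AlgebraicGeometry.Morphisms.Etale
import Mathlib.AlgebraicGeometry.Morphisms.UniversallyOpen

/-! Local dimension is invariant under open, generalizing maps with discrete fibres. -/

open Topology TopologicalSpace AlgebraicGeometry CategoryTheory

namespace Groth.Agent.Lib.DescAlg.LocalDimEtale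

section
variable {α β : Type*} [TopologicalSpace α] [TopologicalSpace β]

attribute [local instance] specializationOrder

theorem topologicalKrullDim_eq_krullDim [T0Space α] [QuasiSober α] :
    topologicalKrullDim α = Order.krullDim α :=
  Order.krullDim_eq_of_orderIso irreducibleSetEquivPoints

theorem krullDim_eq_of_surjective [T0Space α] [QuasiSober α] [T0Space β] [QuasiSober β]
    {g : α → β} (hg : Continuous g) (hs : Function.Surjective g) (hgen : GeneralizingMap g)
    (hd : ∀ a b, b ⤳ a → g a = g b → a = b) :
    topologicalKrullDim α = topologicalKrullDim β := by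
  rw [topologicalKrullDim_eq_krullDim, topologicalKrullDim_eq_krullDim]
  apply le_antisymm
  · refine Order.krullDim_le_of_strictMono g (fun a b hab => ?_)
    refine lt_of_le_of_ne ((show b ⤳ a from hab.le).map hg) (fun he => hab.ne (hd a b hab.le he))
  · refine iSup_le fun l => ?_
    suffices ∀ l : LTSeries β, ∃ l' : LTSeries α, l'.length = l.length ∧ g l'.last = l.last by
      obtain ⟨l', h1, -⟩ := this l
      rw [← h1]; exact Order.LTSeries.length_le_krullDim l'
    intro l
    induction l using RelSeries.inductionOn' with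
    | singleton b =>
      obtain ⟨a, ha⟩ := hs b
      exact ⟨RelSeries.singleton _ a, rfl, ha⟩
    | snoc p b hb ih =>
      obtain ⟨q, hq1, hq2⟩ := ih
      have hb' : p.last < b := hb
      have hsp : b ⤳ g q.last := hq2.symm ▸ hb'.le
      obtain ⟨a, ha, hab⟩ := hgen hsp
      have hlt : q.last < a := lt_of_le_of_ne ha (fun h => hb'.ne (by rw [← hq2, h, hab]))
      exact ⟨q.snoc a hlt, by simp [hq1], by simp [hab]⟩

theorem localDim_eq [T0Space α] [QuasiSober α] [T0Space β] [QuasiSober β]
    {f : α → β} (hf : Continuous f) (ho : IsOpenMap f) (hgen : GeneralizingMap f)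
    (hd : ∀ y, _root_.IsDiscrete (f ⁻¹' {y})) (a : α) :
    FlatMor.localDim α a = FlatMor.localDim β (f a) := by
  have key : ∀ (U : Opens α), topologicalKrullDim (U : Set α) = topologicalKrullDim (f '' U : Set β) := by
    intro U
    have hV : IsOpen (f '' (U : Set α)) := ho _ U.2
    have : QuasiSober (U : Set α) := U.2.isOpenEmbedding_subtypeVal.quasiSober
    have : QuasiSober (f '' (U : Set α)) := hV.isOpenEmbedding_subtypeVal.quasiSober
    refine krullDim_eq_of_surjective (g := fun x => ⟨f x, x, x.2, rfl⟩) (by fun_prop) ?_ ?_ ?_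
    · rintro ⟨_, x, hx, rfl⟩; exact ⟨⟨x, hx⟩, rfl⟩
    · intro x y hxy
      obtain ⟨z, hz1, hz2⟩ := hgen (IsInducing.subtypeVal.specializes_iff.2 hxy)
      exact ⟨⟨z, hz1.mem_open U.2 x.2⟩, IsInducing.subtypeVal.specializes_iff.1 hz1,
        Subtype.ext hz2⟩
    · intro x y hxy he
      exact Subtype.ext ((hd (f x)).eq_of_specializes (IsInducing.subtypeVal.specializes_iff.2 hxy)
        (congrArg Subtype.val he).symm rfl).symm
  refine le_antisymm (le_iInf fun V => ?_) (le_iInf fun U => ?_)
  · refine iInf_le_of_le ⟨⟨f ⁻¹' V.1, V.1.2.preimage hf⟩, V.2⟩ ?_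
    refine (key _).le.trans ?_
    exact (Topology.IsEmbedding.inclusion (Set.image_preimage_subset f V.1)).isInducing.topologicalKrullDim_le
  · exact iInf_le_of_le ⟨⟨f '' U.1, ho _ U.1.2⟩, a, U.2, rfl⟩ (key U.1).ge

end

universe u

theorem localDim_eq_of_etale {U V : Scheme.{u}} (f : U ⟶ V) [Etale f] (u : U) :
    FlatMor.localDim U u = FlatMor.localDim V (f.base u) :=
  have := Groth.Agent.Lib.AlgSpace.locallyQuasiFinite_of_etale f
  localDim_eq f.continuous f.isOpenMap (Flat.generalizingMap f) f.isDiscrete_preimage_singleton u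

end Groth.Agent.Lib.DescAlg.LocalDimEtale
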