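import Groth.Agent.Lib.DescAlg.PbSec
import Mathlib.AlgebraicGeometry.Morphisms.Flat
import Mathlib.AlgebraicGeometry.Morphisms.Affine
import Mathlib.RingTheory.Flat.FaithfullyFlat.Basic
import Mathlib.RingTheory.IsTensorProduct

/-!
# Exactness of the sections of a quasi-coherent module along faithfully flat affine morphisms
-/

set_option autoImplicit false
set_option backward.isDefEq.respectTransparency false
set_option backward.isDefEq.respectTransparency.types false
set_option linter.style.haveILetI false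
universe u

open CategoryTheory CategoryTheory.Limits AlgebraicGeometry Opposite TopologicalSpace
open ZarCoh.FlatBC.PullbackSections
open scoped TensorProduct

namespace Groth.Agent.Lib.DescAlg.PbSec

/-- The kernel of the Amitsur complex in degree zero, for any model `C` of `B ⊗[A] B`. -/
theorem amitsur {A B C N : Type u} [CommRing A] [CommRing B] [CommRing C] [Algebra A B] [Algebra A C]
    [Module.FaithfullyFlat A B] [AddCommGroup N] [Module A N] (i₁ i₂ : B →ₐ[A] C)
    (hC : Function.Bijective (Algebra.TensorProduct.productMap i₁ i₂)) (z : B ⊗[A] N)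
    (hz : i₁.toLinearMap.rTensor N z = i₂.toLinearMap.rTensor N z) :
    ∃ n : N, (1 : B) ⊗ₜ n = z := by
  let e : (B ⊗[A] B) ⊗[A] N ≃ₗ[A] C ⊗[A] N :=
    LinearEquiv.rTensor N (LinearEquiv.ofBijective (Algebra.TensorProduct.productMap i₁ i₂).toLinearMap hC)
  let a := TensorProduct.assoc A B B N
  have h₁ : ∀ z, e (a.symm (LinearMap.lTensor B (TensorProduct.mk A B N 1) z)) = i₁.toLinearMap.rTensor N z := by
    intro z
    induction z using TensorProduct.induction_on with
    | zero => simp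
    | tmul b n =>
      show Algebra.TensorProduct.productMap i₁ i₂ (b ⊗ₜ 1) ⊗ₜ n = i₁ b ⊗ₜ n
      simp
    | add x y hx hy => simp only [map_add, hx, hy]
  have h₂ : ∀ z, e (a.symm (TensorProduct.mk A B (B ⊗[A] N) 1 z)) = i₂.toLinearMap.rTensor N z := by
    intro z
    induction z using TensorProduct.induction_on with
    | zero => simp
    | tmul b n =>
      show Algebra.TensorProduct.productMap i₁ i₂ (1 ⊗ₜ b) ⊗ₜ n = i₂ b ⊗ₜ n
      simp
    | add x y hx hy => simp only [map_add, hx, hy]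
  have h : TensorProduct.mk A B (B ⊗[A] N) 1 z = LinearMap.lTensor B (TensorProduct.mk A B N 1) z :=
    a.symm.injective (e.injective (by rw [h₁, h₂, hz]))
  have h' := congrArg (LinearMap.lTensor B (LinearMap.range (TensorProduct.mk A B N 1)).mkQ) h
  rw [← LinearMap.comp_apply, ← LinearMap.comp_apply, ← LinearMap.lTensor_comp,
    LinearMap.range_mkQ_comp, LinearMap.lTensor_zero] at h'
  show z ∈ LinearMap.range (TensorProduct.mk A B N 1)
  rw [← Submodule.Quotient.mk_eq_zero]
  exact (Module.FaithfullyFlat.one_tmul_eq_zero_iff A _ (A := B) _).1 h'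

variable {X Y Z : Scheme.{u}} (g : Z ⟶ Y) {u : Y ⟶ X} {v : Z ⟶ X} (h : g ≫ u = v) (M : X.Modules)
  {W : Y.Opens} {W' : Z.Opens}

/-- The base change map `Γ(Z, W') ⊗ Γ(u^*M, W) → Γ(v^*M, W')`. -/
noncomputable def RTensor (e : W' ≤ g ⁻¹ᵁ W) :
    letI := (g.appLE W W' e).hom.toAlgebra
    Γ(Z, W') ⊗[Γ(Y, W)] Γ((Scheme.Modules.pullback u).obj M, W) →+
      Γ((Scheme.Modules.pullback v).obj M, W') :=
  letI := (g.appLE W W' e).hom.toAlgebra
  ((tr g h M).hom.app W').hom.comp (pbTensor g ((Scheme.Modules.pullback u).obj M) e).toAddMonoidHom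

theorem RTensor_tmul (e : W' ≤ g ⁻¹ᵁ W) (s : Γ(Z, W')) (x : Γ((Scheme.Modules.pullback u).obj M, W)) :
    letI := (g.appLE W W' e).hom.toAlgebra
    RTensor g h M e (s ⊗ₜ x) = s • R g h M e x := by
  rw [R_eq, ← Scheme.Modules.Hom.app_smul]
  rfl

theorem RTensor_bijective [M.IsQuasicoherent] (hW : IsAffineOpen W) (hW' : IsAffineOpen W')
    (e : W' ≤ g ⁻¹ᵁ W) : Function.Bijective (RTensor g h M e) := by
  haveI := Groth.Agent.Lib.QCoh.Pullback.isQCoh_pullback u M
  exact (ConcreteCategory.bijective_of_isIso ((tr g h M).hom.app W')).comp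
    (bijective_pbTensor g ((Scheme.Modules.pullback u).obj M) hW hW' e)

theorem appLE_congr_hom {A B : Scheme.{u}} {p q : A ⟶ B} (hpq : p = q) {U : B.Opens} {V : A.Opens}
    (e₁ : V ≤ p ⁻¹ᵁ U) (e₂ : V ≤ q ⁻¹ᵁ U) (r : Γ(B, U)) :
    (p.appLE U V e₁).hom r = (q.appLE U V e₂).hom r := by
  subst hpq
  rfl

variable [IsAffine Y] [IsAffine Z] [Flat g] [Surjective g] [M.IsQuasicoherent]

include h in
theorem R_injective :
    Function.Injective (R g h M (W := ⊤) (W' := ⊤) le_top) := by
  letI := (g.appLE ⊤ ⊤ le_top).hom.toAlgebra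
  have he : g.appLE ⊤ ⊤ le_top = g.appTop := by
    rw [Scheme.Hom.appTop, Scheme.Hom.app_eq_appLE]
    rfl
  have hff : Module.FaithfullyFlat Γ(Y, ⊤) Γ(Z, ⊤) := by
    have := (Flat.flat_and_surjective_iff_faithfullyFlat_of_isAffine g).mp ⟨‹_›, ‹_›⟩
    rw [← he] at this
    exact this
  have hb := RTensor_bijective g h M (isAffineOpen_top Y) (isAffineOpen_top Z) le_top
  intro x y hxy
  have hxy' : (1 : Γ(Z, ⊤)) ⊗ₜ[Γ(Y, ⊤)] x = (1 : Γ(Z, ⊤)) ⊗ₜ[Γ(Y, ⊤)] y := hb.injective (by
    rw [RTensor_tmul, RTensor_tmul, hxy])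
  exact Module.FaithfullyFlat.tensorProduct_mk_injective _ hxy'

theorem exists_R_eq {w : pullback g g ⟶ X} (h₁ : pullback.fst g g ≫ v = w) (h₂ : pullback.snd g g ≫ v = w)
    (x : Γ((Scheme.Modules.pullback v).obj M, ⊤))
    (hx : R (pullback.fst g g) h₁ M (W' := ⊤) le_top x = R (pullback.snd g g) h₂ M (W' := ⊤) le_top x) :
    ∃ y : Γ((Scheme.Modules.pullback u).obj M, ⊤), R g h M (W' := ⊤) le_top y = x := by
  letI := (g.appLE ⊤ ⊤ le_top).hom.toAlgebra
  let q : pullback g g ⟶ Y := pullback.fst g g ≫ g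
  letI : Algebra Γ(Y, ⊤) Γ(pullback g g, ⊤) := (q.appLE ⊤ ⊤ le_top).hom.toAlgebra
  have he : g.appLE ⊤ ⊤ le_top = g.appTop := by
    rw [Scheme.Hom.appTop, Scheme.Hom.app_eq_appLE]
    rfl
  have hff : Module.FaithfullyFlat Γ(Y, ⊤) Γ(Z, ⊤) := by
    have := (Flat.flat_and_surjective_iff_faithfullyFlat_of_isAffine g).mp ⟨‹_›, ‹_›⟩
    rw [← he] at this
    exact this
  let i₁ : Γ(Z, ⊤) →ₐ[Γ(Y, ⊤)] Γ(pullback g g, ⊤) :=
    { ((pullback.fst g g).appLE ⊤ ⊤ le_top).hom with
      commutes' := fun r => congr($(Scheme.Hom.appLE_comp_appLE (pullback.fst g g) g ⊤ ⊤ ⊤ le_top le_top).hom r) }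
  let i₂ : Γ(Z, ⊤) →ₐ[Γ(Y, ⊤)] Γ(pullback g g, ⊤) :=
    { ((pullback.snd g g).appLE ⊤ ⊤ le_top).hom with
      commutes' := fun r => (congr($(Scheme.Hom.appLE_comp_appLE (pullback.snd g g) g ⊤ ⊤ ⊤ le_top le_top).hom r)).trans
        (appLE_congr_hom pullback.condition.symm le_top le_top r) }
  have hb := RTensor_bijective g h M (isAffineOpen_top Y) (isAffineOpen_top Z) le_top
  obtain ⟨z, rfl⟩ := hb.surjective x
  have hC : Function.Bijective (Algebra.TensorProduct.productMap i₁ i₂) := by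
    have h1 := (isPushout_appTop_of_isPullback (IsPullback.of_hasPullback g g))
    have eL : ∀ {A B : Scheme.{u}} (p : A ⟶ B), p.appTop = p.appLE ⊤ ⊤ le_top := fun p => by
      rw [Scheme.Hom.appTop, Scheme.Hom.app_eq_appLE]
      rfl
    rw [eL, eL, eL] at h1
    have h2 := CommRingCat.isPushout_tensorProduct Γ(Y, ⊤) Γ(Z, ⊤) Γ(Z, ⊤)
    let e := h2.isoIsPushout _ _ h1
    have : CommRingCat.ofHom (Algebra.TensorProduct.productMap i₁ i₂).toRingHom = e.hom := by
      apply h2.hom_ext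
      · rw [IsPushout.inl_isoIsPushout_hom]
        ext s
        exact Algebra.TensorProduct.productMap_left_apply i₁ i₂ s
      · rw [IsPushout.inr_isoIsPushout_hom]
        ext s
        exact Algebra.TensorProduct.productMap_right_apply i₁ i₂ s
    have hb' := ConcreteCategory.bijective_of_isIso e.hom
    rw [← this] at hb'
    exact hb'
  have hq : q ≫ u = w := by simp only [q, Category.assoc, h, h₁]
  have key : ∀ (p : pullback g g ⟶ Z) (hp : p ≫ v = w) (hpq : p ≫ g = q)
      (i : Γ(Z, ⊤) →ₐ[Γ(Y, ⊤)] Γ(pullback g g, ⊤)) (hi : ∀ s, i s = p.appLE ⊤ ⊤ le_top s) (z),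
      R p hp M (W' := ⊤) le_top (RTensor g h M le_top z) = RTensor q hq M (W := ⊤) (W' := ⊤) le_top (i.toLinearMap.rTensor _ z) := by
    intro p hp hpq i hi z
    induction z using TensorProduct.induction_on with
    | zero => simp only [map_zero]
    | tmul s n =>
      rw [RTensor_tmul, R_smul, R_comp g p q h hp hpq, LinearMap.rTensor_tmul, RTensor_tmul, ← hi]
      rfl
    | add a b ha hb => simp only [map_add, ha, hb]
  have hz : i₁.toLinearMap.rTensor _ z = i₂.toLinearMap.rTensor _ z := by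
    haveI : IsAffine (pullback g g) := inferInstance
    apply (RTensor_bijective q hq M (isAffineOpen_top Y) (isAffineOpen_top _) le_top).injective
    rw [← key (pullback.fst g g) h₁ rfl i₁ (fun _ => rfl), ← key (pullback.snd g g) h₂ pullback.condition.symm i₂ (fun _ => rfl)]
    exact hx
  obtain ⟨n, hn⟩ := amitsur i₁ i₂ hC z hz
  exact ⟨n, by rw [← hn, RTensor_tmul, one_smul]⟩

end Groth.Agent.Lib.DescAlg.PbSec
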