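import Groth.Agent.Lib.DescAlg.PbSecHom
import Groth.Agent.Lib.DescAlg.RingDescent.Pure
import Groth.Agent.Lib.Flat55.FlatFunSheaf
import Groth.Agent.Lib.QCoh.Tilde
import Mathlib.LinearAlgebra.TensorProduct.Tower

/-!
# A module with quasi-coherent inverse image under an affine faithfully flat map to `Spec R` is
quasi-coherent
-/

set_option autoImplicit false
set_option backward.isDefEq.respectTransparency false
set_option backward.isDefEq.respectTransparency.types false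
set_option linter.style.haveILetI false
universe u

open CategoryTheory CategoryTheory.Limits AlgebraicGeometry Opposite TopologicalSpace
open ZarCoh.FlatBC.PullbackSections
open scoped TensorProduct

namespace Groth.Agent.Lib.DescAlg.PbSec

open Groth.Agent.Lib.Modules.StalkModule

/-- A map of quasi-coherent modules on an affine scheme bijective on global sections is an iso. -/
theorem isIso_of_app_top_bijective {X : Scheme.{u}} [IsAffine X] {F G : X.Modules} [F.IsQuasicoherent]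
    [G.IsQuasicoherent] (u : F ⟶ G) (h : Function.Bijective (u.app ⊤)) : IsIso u := by
  rw [isIso_iff_stalkMapₗ_bijective]
  intro x
  letI := StalkLoc.Basic.moduleSections F (U := (⊤ : X.Opens)) (x := x) trivial
  letI := StalkLoc.Basic.moduleSections G (U := (⊤ : X.Opens)) (x := x) trivial
  haveI hF := StalkLoc.Basic.isLocalizedModule_germ (M := F) (isAffineOpen_top X) (x := x) trivial
  haveI hG := StalkLoc.Basic.isLocalizedModule_germ (M := G) (isAffineOpen_top X) (x := x) trivial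
  let S := ((isAffineOpen_top X).primeIdealOf ⟨x, trivial⟩).asIdeal.primeCompl
  let gF := StalkLoc.Basic.germₗ F (U := (⊤ : X.Opens)) (x := x) trivial
  let gG := StalkLoc.Basic.germₗ G (U := (⊤ : X.Opens)) (x := x) trivial
  let e : Γ(F, ⊤) ≃ₗ[Γ(X, ⊤)] Γ(G, ⊤) := LinearEquiv.ofBijective
    { toFun := u.app ⊤, map_add' := map_add _, map_smul' := fun r y => Scheme.Modules.Hom.app_smul u r y } h
  have he : ⇑(stalkMapₗ u x) = IsLocalizedModule.map S gF gG e.toLinearMap := by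
    funext z
    obtain ⟨⟨m, s⟩, hms⟩ := IsLocalizedModule.surj S gF z
    have hs : ∀ (P : X.Modules) [P.IsQuasicoherent], letI := StalkLoc.Basic.moduleSections P (U := (⊤ : X.Opens)) (x := x) trivial
        Function.Injective fun v : P.presheaf.stalk x => (s : Γ(X, ⊤)) • v := by
      intro P _
      letI := StalkLoc.Basic.moduleSections P (U := (⊤ : X.Opens)) (x := x) trivial
      haveI := StalkLoc.Basic.isLocalizedModule_germ (M := P) (isAffineOpen_top X) (x := x) trivial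
      exact ((Module.End.isUnit_iff _).1
        (IsLocalizedModule.map_units (StalkLoc.Basic.germₗ P (U := (⊤ : X.Opens)) (x := x) trivial) s)).injective
    apply hs G
    show (s : Γ(X, ⊤)) • stalkMapₗ u x z = (s : Γ(X, ⊤)) • IsLocalizedModule.map S gF gG e.toLinearMap z
    have hms' : (s : Γ(X, ⊤)) • z = gF m := hms
    have r2 := (map_smul (IsLocalizedModule.map S gF gG e.toLinearMap) (s : Γ(X, ⊤)) z).symm
    have r1 : (s : Γ(X, ⊤)) • stalkMapₗ u x z = stalkMapₗ u x ((s : Γ(X, ⊤)) • z) :=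
      (map_smul (stalkMapₗ u x) (X.presheaf.germ ⊤ x trivial (s : Γ(X, ⊤))) z).symm
    rw [r1, r2, hms', IsLocalizedModule.map_apply]
    exact stalkMapₗ_germ u (U := (⊤ : X.Opens)) (x := x) trivial m
  rw [he]
  exact ⟨IsLocalizedModule.map_injective S gF gG e.toLinearMap e.injective,
    IsLocalizedModule.map_surjective S gF gG e.toLinearMap e.surjective⟩

theorem productMap_bijective_of_isPushout {R B C : Type u} {P : CommRingCat.{u}} [CommRing R] [CommRing B]
    [CommRing C] [Algebra R B] [Algebra R C] [Algebra R P] (i : B →ₐ[R] P) (j : C →ₐ[R] P)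
    (h : IsPushout (CommRingCat.ofHom (algebraMap R B)) (CommRingCat.ofHom (algebraMap R C))
      (CommRingCat.ofHom (S := P) i.toRingHom) (CommRingCat.ofHom (S := P) j.toRingHom)) :
    Function.Bijective (Algebra.TensorProduct.productMap i j) := by
  have h2 := CommRingCat.isPushout_tensorProduct R B C
  let e := h2.isoIsPushout _ _ h
  have : CommRingCat.ofHom (Algebra.TensorProduct.productMap i j).toRingHom = e.hom := by
    apply h2.hom_ext
    · rw [IsPushout.inl_isoIsPushout_hom]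
      ext s
      exact Algebra.TensorProduct.productMap_left_apply i j s
    · rw [IsPushout.inr_isoIsPushout_hom]
      ext s
      exact Algebra.TensorProduct.productMap_right_apply i j s
  have hb' := ConcreteCategory.bijective_of_isIso e.hom
  rw [← this] at hb'
  exact hb'

variable {R : CommRingCat.{u}} {V W : Scheme.{u}}

/-- The `R`-algebra structure of sections. -/
noncomputable def str (w : W ⟶ Spec R) : R ⟶ Γ(W, ⊤) := (Scheme.ΓSpecIso R).inv ≫ w.appLE ⊤ ⊤ le_top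

theorem str_comp {T : Scheme.{u}} (p : T ⟶ W) (w : W ⟶ Spec R) (t : T ⟶ Spec R) (h : p ≫ w = t) (r : R) :
    (p.appLE ⊤ ⊤ le_top).hom ((str w).hom r) = (str t).hom r := by
  subst h
  exact congr($(Scheme.Hom.appLE_comp_appLE p w ⊤ ⊤ ⊤ le_top le_top).hom ((Scheme.ΓSpecIso R).inv r))

variable (g : V ⟶ Spec R) (M : (Spec R).Modules)

/-- The sections of the inverse image as an `R`-module. -/
def Sec (w : W ⟶ Spec R) : Type u := Γ((Scheme.Modules.pullback w).obj M, ⊤)

noncomputable instance (w : W ⟶ Spec R) : AddCommGroup (Sec M w) :=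
  inferInstanceAs (AddCommGroup Γ((Scheme.Modules.pullback w).obj M, ⊤))

noncomputable instance (w : W ⟶ Spec R) : Module Γ(W, ⊤) (Sec M w) :=
  inferInstanceAs (Module Γ(W, ⊤) Γ((Scheme.Modules.pullback w).obj M, ⊤))

noncomputable instance (w : W ⟶ Spec R) : Module R (Sec M w) := Module.compHom _ (str w).hom

/-- `R` between modules of sections. -/
noncomputable def Rs {T : Scheme.{u}} (p : T ⟶ W) {w : W ⟶ Spec R} {t : T ⟶ Spec R} (h : p ≫ w = t) :
    Sec M w →ₗ[R] Sec M t where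
  toFun x := Groth.Agent.Lib.DescAlg.PbSec.R p h M (W := ⊤) (W' := ⊤) le_top x
  map_add' := map_add (Groth.Agent.Lib.DescAlg.PbSec.R p h M (W := ⊤) (W' := ⊤) le_top)
  map_smul' r x := by
    show Groth.Agent.Lib.DescAlg.PbSec.R p h M (W := ⊤) (W' := ⊤) le_top ((str w).hom r • _) = (str t).hom r • _
    rw [R_smul, str_comp p w t h]

theorem Rs_comp {T T' : Scheme.{u}} (p : T ⟶ W) (p' : T' ⟶ T) (p'' : T' ⟶ W) {w : W ⟶ Spec R}
    {t : T ⟶ Spec R} {t' : T' ⟶ Spec R} (h : p ≫ w = t) (h' : p' ≫ t = t') (hp : p' ≫ p = p'') (x : Sec M w) :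
    Rs M p' h' (Rs M p h x) = Rs M p'' (by rw [← hp, Category.assoc, h, h']) x :=
  R_comp p p' p'' h h' hp M (W := ⊤) (W' := ⊤) (W'' := ⊤) le_top le_top x

theorem Rs_id {w : W ⟶ Spec R} (x : Sec M w) : Rs M (𝟙 W) (Category.id_comp w) x = x :=
  (R_id M (W := ⊤) (W' := ⊤) le_rfl x).trans
    (ConcreteCategory.congr_hom (((Scheme.Modules.pullback w).obj M).presheaf.map_id _) x)

theorem Rs_congr {T : Scheme.{u}} {p q : T ⟶ W} (hpq : p = q) {w : W ⟶ Spec R} {t : T ⟶ Spec R}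
    (h : p ≫ w = t) (h' : q ≫ w = t) (x : Sec M w) : Rs M p h x = Rs M q h' x := by
  subst hpq
  rfl

theorem Rs_smul {T : Scheme.{u}} (p : T ⟶ W) {w : W ⟶ Spec R} {t : T ⟶ Spec R} (h : p ≫ w = t)
    (b : Γ(W, ⊤)) (x : Sec M w) : Rs M p h (b • x) = (p.appLE ⊤ ⊤ le_top).hom b • Rs M p h x :=
  R_smul p h M (W := ⊤) (W' := ⊤) le_top b x

/-- Pulling back scalars. -/
noncomputable def act {T : Scheme.{u}} (p : T ⟶ V) {t : T ⟶ Spec R} (h : p ≫ g = t) :
    letI := (str g).hom.toAlgebra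
    letI := (str t).hom.toAlgebra
    Γ(V, ⊤) →ₐ[R] Γ(T, ⊤) :=
  letI := (str g).hom.toAlgebra
  letI := (str t).hom.toAlgebra
  { (p.appLE ⊤ ⊤ le_top).hom with commutes' := fun r => str_comp p g t h r }

/-- The comparison `Γ(V) ⊗ Γ(w^*M) → Γ(t^*M)`. -/
noncomputable def Phi {T : Scheme.{u}} (p₁ : T ⟶ V) (p₂ : T ⟶ W) {w : W ⟶ Spec R} {t : T ⟶ Spec R}
    (h₁ : p₁ ≫ g = t) (h₂ : p₂ ≫ w = t) :
    letI := (str g).hom.toAlgebra
    Γ(V, ⊤) ⊗[R] Sec M w →ₗ[R] Sec M t :=
  letI := (str g).hom.toAlgebra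
  TensorProduct.lift (LinearMap.mk₂ R (fun (b : Γ(V, ⊤)) (x : Sec M w) => (act g p₁ h₁ b • Rs M p₂ (t := t) h₂ x : Sec M t))
    (fun b b' x => by rw [map_add, add_smul])
    (fun r b x => by
      letI := (str t).hom.toAlgebra
      rw [Algebra.smul_def, map_mul, AlgHom.commutes, mul_smul]
      rfl)
    (fun b x x' => by rw [map_add, smul_add])
    (fun r b x => by
      rw [map_smul]
      show act g p₁ h₁ b • ((str t).hom r • (Rs M p₂ (t := t) h₂ x : Sec M t)) =
        (str t).hom r • (act g p₁ h₁ b • (Rs M p₂ (t := t) h₂ x : Sec M t))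
      exact smul_comm _ _ _))

theorem Phi_tmul {T : Scheme.{u}} (p₁ : T ⟶ V) (p₂ : T ⟶ W) {w : W ⟶ Spec R} {t : T ⟶ Spec R}
    (h₁ : p₁ ≫ g = t) (h₂ : p₂ ≫ w = t) (b : Γ(V, ⊤)) (x : Sec M w) :
    letI := (str g).hom.toAlgebra
    Phi g M p₁ p₂ h₁ h₂ (b ⊗ₜ x) = (p₁.appLE ⊤ ⊤ le_top).hom b • Rs M p₂ h₂ x := rfl

variable [IsAffine V] [IsAffine W]

theorem Phi_bijective (w : W ⟶ Spec R) [((Scheme.Modules.pullback w).obj M).IsQuasicoherent] :
    Function.Bijective (Phi g M (pullback.fst g w) (pullback.snd g w) rfl pullback.condition.symm) := by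
  letI := (str g).hom.toAlgebra
  let t := pullback.fst g w ≫ g
  letI := (str w).hom.toAlgebra
  letI := (str t).hom.toAlgebra
  let P := pullback g w
  let q := pullback.snd g w
  letI : Algebra Γ(W, ⊤) Γ(P, ⊤) := (q.appLE ⊤ ⊤ le_top).hom.toAlgebra
  haveI : IsScalarTower R Γ(W, ⊤) Γ(P, ⊤) :=
    IsScalarTower.of_algebraMap_eq fun r => (str_comp q w t pullback.condition.symm r).symm
  haveI : IsScalarTower R Γ(W, ⊤) (Sec M w) := IsScalarTower.of_algebraMap_smul fun _ _ => rfl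
  let j : Γ(W, ⊤) →ₐ[R] Γ(P, ⊤) := IsScalarTower.toAlgHom R _ _
  have eL : ∀ {A B : Scheme.{u}} (p : A ⟶ B), p.appTop = p.appLE ⊤ ⊤ le_top := fun p => by
    rw [Scheme.Hom.appTop, Scheme.Hom.app_eq_appLE]
    rfl
  have h0 := isPushout_appTop_of_isPullback (IsPullback.of_hasPullback g w)
  rw [eL, eL, eL, eL] at h0
  have h1 : IsPushout (CommRingCat.ofHom (algebraMap R Γ(W, ⊤))) (CommRingCat.ofHom (algebraMap R Γ(V, ⊤)))
      (CommRingCat.ofHom (S := Γ(P, ⊤)) j.toRingHom)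
      (CommRingCat.ofHom (S := Γ(P, ⊤)) (act g (pullback.fst g w) (t := t) rfl).toRingHom) :=
    (h0.of_iso (Scheme.ΓSpecIso R) (Iso.refl _) (Iso.refl _) (Iso.refl _)
      (by simp [str, RingHom.algebraMap_toAlgebra]) (by simp [str, RingHom.algebraMap_toAlgebra])
      (by simp [act]) (by simp [j, RingHom.algebraMap_toAlgebra]; rfl)).flip
  have hj := productMap_bijective_of_isPushout j (act g (pullback.fst g w) (t := t) rfl) h1
  let ε : Γ(W, ⊤) ⊗[R] Γ(V, ⊤) ≃ₗ[Γ(W, ⊤)] Γ(P, ⊤) := LinearEquiv.ofBijective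
    { toFun := Algebra.TensorProduct.productMap j (act g (pullback.fst g w) (t := t) rfl)
      map_add' := map_add _
      map_smul' := fun c z => by
        induction z using TensorProduct.induction_on with
        | zero => simp
        | tmul a b =>
          show Algebra.TensorProduct.productMap _ _ ((c * a) ⊗ₜ[R] b) =
            algebraMap Γ(W, ⊤) Γ(P, ⊤) c * Algebra.TensorProduct.productMap _ _ (a ⊗ₜ[R] b)
          rw [Algebra.TensorProduct.productMap_apply_tmul, Algebra.TensorProduct.productMap_apply_tmul, map_mul,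
            mul_assoc]
          rfl
        | add a b ha hb => simp only [smul_add, map_add, ha, hb, RingHom.id_apply] at * } hj
  let E : Γ(V, ⊤) ⊗[R] Sec M w ≃ₗ[R] Γ(P, ⊤) ⊗[Γ(W, ⊤)] Sec M w :=
    (TensorProduct.comm R _ _).trans
      (((TensorProduct.AlgebraTensorModule.cancelBaseChange R Γ(W, ⊤) Γ(W, ⊤) (Sec M w) Γ(V, ⊤)).symm.trans
        ((TensorProduct.congr (LinearEquiv.refl _ (Sec M w)) ε).trans (TensorProduct.comm Γ(W, ⊤) _ _))).restrictScalars R)
  have hR : ⇑(Phi g M (pullback.fst g w) (pullback.snd g w) rfl pullback.condition.symm) =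
      RTensor q (u := w) (v := t) pullback.condition.symm M (W := ⊤) (W' := ⊤) le_top ∘ E := by
    funext z
    induction z using TensorProduct.induction_on with
    | zero =>
      exact (map_zero _).trans ((congrArg _ (map_zero E)).trans (map_zero _)).symm
    | tmul b x =>
      have hE : E (b ⊗ₜ x) = ε (1 ⊗ₜ b) ⊗ₜ x := rfl
      show _ = RTensor q _ M _ (E (b ⊗ₜ x))
      rw [hE]
      refine Eq.trans ?_ (RTensor_tmul q _ M le_top _ x).symm
      refine (Phi_tmul g M _ _ _ _ b x).trans (congrArg (fun c => c • Rs M q pullback.condition.symm x) ?_)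
      show _ = Algebra.TensorProduct.productMap _ _ ((1 : Γ(W, ⊤)) ⊗ₜ[R] b)
      rw [Algebra.TensorProduct.productMap_apply_tmul, map_one, one_mul]
      rfl
    | add a b ha hb =>
      refine (map_add _ a b).trans ((congrArg₂ (· + ·) ha hb).trans ?_)
      exact ((congrArg _ (map_add E a b)).trans (map_add _ _ _)).symm
  rw [hR]
  exact ((ConcreteCategory.bijective_of_isIso ((tr q (u := w) (v := t) pullback.condition.symm M).hom.app ⊤)).comp
    (bijective_pbTensor q ((Scheme.Modules.pullback w).obj M) (isAffineOpen_top W) (isAffineOpen_top _) le_top)).comp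
    E.bijective

variable [((Scheme.Modules.pullback g).obj M).IsQuasicoherent]

/-- The coaction on the sections over `V`. -/
theorem exists_coaction :
    letI := (str g).hom.toAlgebra
    haveI : IsScalarTower R Γ(V, ⊤) (Sec M g) := IsScalarTower.of_algebraMap_smul fun _ _ => rfl
    ∃ θ : Sec M g →ₗ[R] Γ(V, ⊤) ⊗[R] Sec M g, RingDescent.IsCoaction θ ∧
      ∀ n, θ n = 1 ⊗ₜ n ↔ Rs M (pullback.fst g g) (t := pullback.fst g g ≫ g) rfl n =
        Rs M (pullback.snd g g) (t := pullback.fst g g ≫ g) pullback.condition.symm n := by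
  letI := (str g).hom.toAlgebra
  haveI : IsScalarTower R Γ(V, ⊤) (Sec M g) := IsScalarTower.of_algebraMap_smul fun _ _ => rfl
  let p₁ := pullback.fst g g
  let p₂ := pullback.snd g g
  let q := p₁ ≫ g
  have h₂ : p₂ ≫ g = q := pullback.condition.symm
  let Φ₀ := Phi g M p₁ p₂ (t := q) rfl h₂
  let Φ := LinearEquiv.ofBijective Φ₀ (Phi_bijective g M g)
  let θ : Sec M g →ₗ[R] Γ(V, ⊤) ⊗[R] Sec M g := Φ.symm.toLinearMap.comp (Rs M p₁ (t := q) rfl)
  have hθ : ∀ n, Phi g M p₁ p₂ (t := q) rfl h₂ (θ n) = Rs M p₁ (t := q) rfl n := fun n => Φ.apply_symm_apply _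
  have hsm : ∀ (a : Γ(V, ⊤)) (z : Γ(V, ⊤) ⊗[R] Sec M g),
      Phi g M p₁ p₂ (t := q) rfl h₂ (a • z) = (p₁.appLE ⊤ ⊤ le_top).hom a • Phi g M p₁ p₂ (t := q) rfl h₂ z := by
    intro a z
    induction z using TensorProduct.induction_on with
    | zero => simp
    | tmul b x =>
      rw [TensorProduct.smul_tmul', Phi_tmul, Phi_tmul, smul_eq_mul, map_mul, mul_smul]
    | add x y hx hy => simp only [smul_add, map_add, hx, hy]
  refine ⟨θ, ⟨fun a n => Φ.injective ?_, fun n => ?_, fun n => ?_⟩, fun n => ?_⟩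
  · show Phi g M p₁ p₂ (t := q) rfl h₂ (θ (a • n)) = Phi g M p₁ p₂ (t := q) rfl h₂ (a • θ n)
    rw [hsm, hθ, hθ, Rs_smul]
  · let w : pullback g g ⟶ Spec R := q
    let π₁ := pullback.fst g w
    let π₂₃ := pullback.snd g w
    let t := π₁ ≫ g
    have hπ : π₂₃ ≫ q = t := pullback.condition.symm
    haveI : IsAffine (pullback g g) := inferInstance
    haveI : ((Scheme.Modules.pullback w).obj M).IsQuasicoherent :=
      haveI := Groth.Agent.Lib.QCoh.Pullback.isQCoh_pullback p₁ ((Scheme.Modules.pullback g).obj M)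
      (SheafOfModules.isQuasicoherent.{u} (pullback g g).ringCatSheaf).prop_of_iso (tr p₁ rfl M) inferInstance
    have hΨ : Function.Bijective ((Phi g M π₁ π₂₃ (t := t) rfl hπ).comp (Φ.toLinearMap.lTensor Γ(V, ⊤))) :=
      (Phi_bijective g M w).comp (LinearEquiv.lTensor Γ(V, ⊤) Φ).bijective
    apply hΨ.injective
    let π₂ := π₂₃ ≫ p₁
    let π₃ := π₂₃ ≫ p₂
    have h12 : π₁ ≫ g = π₂ ≫ g := by
      rw [show π₂ ≫ g = π₂₃ ≫ q from Category.assoc _ _ _, hπ]
    have h13 : π₁ ≫ g = π₃ ≫ g := by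
      rw [show π₃ ≫ g = π₂₃ ≫ q by rw [← h₂]; exact Category.assoc _ _ _, hπ]
    let π₁₂ := pullback.lift (f := g) (g := g) π₁ π₂ h12
    let π₁₃ := pullback.lift (f := g) (g := g) π₁ π₃ h13
    have e₁ : π₁₂ ≫ p₁ = π₁ := pullback.lift_fst _ _ _
    have e₂ : π₁₂ ≫ p₂ = π₂ := pullback.lift_snd _ _ _
    have f₁ : π₁₃ ≫ p₁ = π₁ := pullback.lift_fst _ _ _
    have f₃ : π₁₃ ≫ p₂ = π₃ := pullback.lift_snd _ _ _
    have hq₁₂ : π₁₂ ≫ q = t := by rw [show π₁₂ ≫ q = (π₁₂ ≫ p₁) ≫ g from (Category.assoc _ _ _).symm, e₁]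
    have hq₁₃ : π₁₃ ≫ q = t := by rw [show π₁₃ ≫ q = (π₁₃ ≫ p₁) ≫ g from (Category.assoc _ _ _).symm, f₁]
    have key₁ : ∀ z, Phi g M π₁ π₂₃ (t := t) rfl hπ (Φ.toLinearMap.lTensor _ (θ.lTensor Γ(V, ⊤) z)) =
        Rs M π₁₂ hq₁₂ (Phi g M p₁ p₂ (t := q) rfl h₂ z) := by
      intro z
      induction z using TensorProduct.induction_on with
      | zero => simp only [map_zero]
      | tmul b x =>
        rw [LinearMap.lTensor_tmul, LinearMap.lTensor_tmul, Phi_tmul, Phi_tmul, Rs_smul,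
          Rs_comp M p₂ π₁₂ π₂ h₂ hq₁₂ e₂]
        show _ • Rs M π₂₃ hπ (Phi g M p₁ p₂ (t := q) rfl h₂ (θ x)) = _
        rw [hθ, Rs_comp M p₁ π₂₃ π₂ rfl hπ rfl]
        refine congrArg (fun c => c • Rs M π₂ _ x) ?_
        show (π₁.appLE ⊤ ⊤ le_top).hom b = _
        exact (appLE_congr_hom e₁.symm le_top le_top b).trans
          (congr($(Scheme.Hom.appLE_comp_appLE π₁₂ p₁ ⊤ ⊤ ⊤ le_top le_top).hom b)).symm
      | add x y hx hy => simp only [map_add, hx, hy]
    have key₂ : ∀ z, Phi g M π₁ π₂₃ (t := t) rfl hπ (Φ.toLinearMap.lTensor _ ((TensorProduct.mk R Γ(V, ⊤) _ 1).lTensor Γ(V, ⊤) z)) =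
        Rs M π₁₃ hq₁₃ (Phi g M p₁ p₂ (t := q) rfl h₂ z) := by
      intro z
      induction z using TensorProduct.induction_on with
      | zero => simp only [map_zero]
      | tmul b x =>
        rw [LinearMap.lTensor_tmul, LinearMap.lTensor_tmul, Phi_tmul, Phi_tmul, Rs_smul,
          Rs_comp M p₂ π₁₃ π₃ h₂ hq₁₃ f₃]
        show _ • Rs M π₂₃ hπ (Phi g M p₁ p₂ (t := q) rfl h₂ (1 ⊗ₜ x)) = _
        rw [Phi_tmul, map_one, one_smul, Rs_comp M p₂ π₂₃ π₃ h₂ hπ rfl]
        refine congrArg (fun c => c • Rs M π₃ _ x) ?_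
        exact (appLE_congr_hom f₁.symm le_top le_top b).trans
          (congr($(Scheme.Hom.appLE_comp_appLE π₁₃ p₁ ⊤ ⊤ ⊤ le_top le_top).hom b)).symm
      | add x y hx hy => simp only [map_add, hx, hy]
    rw [LinearMap.comp_apply, LinearMap.comp_apply]
    refine (key₁ (θ n)).trans (Eq.trans ?_ (key₂ (θ n)).symm)
    rw [hθ, Rs_comp M p₁ π₁₂ π₁ rfl hq₁₂ e₁, Rs_comp M p₁ π₁₃ π₁ rfl hq₁₃ f₁]
  · let Δ : V ⟶ pullback g g := pullback.lift (𝟙 V) (𝟙 V) rfl
    have hΔ₁ : Δ ≫ p₁ = 𝟙 V := pullback.lift_fst _ _ _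
    have hΔ₂ : Δ ≫ p₂ = 𝟙 V := pullback.lift_snd _ _ _
    have hΔq : Δ ≫ q = g := by
      rw [show Δ ≫ q = (Δ ≫ p₁) ≫ g from (Category.assoc _ _ _).symm, hΔ₁, Category.id_comp]
    have key : ∀ z, Rs M Δ hΔq (Phi g M p₁ p₂ (t := q) rfl h₂ z) =
        TensorProduct.lift ((LinearMap.lsmul Γ(V, ⊤) (Sec M g)).restrictScalars₁₂ R R) z := by
      intro z
      induction z using TensorProduct.induction_on with
      | zero => simp only [map_zero]
      | tmul b x =>
        rw [Phi_tmul, Rs_smul, Rs_comp M p₂ Δ (𝟙 V) h₂ hΔq hΔ₂, Rs_id]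
        refine congrArg (fun c => c • x) ?_
        refine (congr($(Scheme.Hom.appLE_comp_appLE Δ p₁ ⊤ ⊤ ⊤ le_top le_top).hom b)).trans
          ((appLE_congr_hom hΔ₁ le_top (le_top : (⊤ : V.Opens) ≤ (𝟙 V) ⁻¹ᵁ ⊤) b).trans ?_)
        simp [Scheme.Hom.appLE]
      | add x y hx hy => simp only [map_add, hx, hy]
    rw [← key, hθ, Rs_comp M p₁ Δ (𝟙 V) rfl hΔq hΔ₁, Rs_id]
  · rw [← Φ.injective.eq_iff]
    show Phi g M p₁ p₂ (t := q) rfl h₂ (θ n) = Phi g M p₁ p₂ (t := q) rfl h₂ (1 ⊗ₜ n) ↔ _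
    rw [hθ, Phi_tmul, map_one, one_smul]

end Groth.Agent.Lib.DescAlg.PbSec
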