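import Groth.Agent.Lib.DescAlg.PbSecDescent

/-!
# Quasi-coherence descends along affine faithfully flat maps to `Spec R`
-/

set_option autoImplicit false
set_option backward.isDefEq.respectTransparency false
set_option backward.isDefEq.respectTransparency.types false
set_option linter.style.haveILetI false
universe u

open CategoryTheory CategoryTheory.Limits AlgebraicGeometry Opposite TopologicalSpace
open ZarCoh.FlatBC.PullbackSections
open scoped TensorProduct

namespace Groth.Agent.Lib.DescAlg.PbSec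

variable {R : CommRingCat.{u}} {V : Scheme.{u}} (g : V ⟶ Spec R)

theorem univInjective_str [IsAffine V] [Flat g] [Surjective g] :
    letI := (str g).hom.toAlgebra
    Pi1.UnivInjective R Γ(V, ⊤) := by
  letI := (str g).hom.toAlgebra
  have hff : Module.FaithfullyFlat R Γ(V, ⊤) := by
    have h1 := (Flat.flat_and_surjective_iff_faithfullyFlat_of_isAffine g).mp ⟨‹_›, ‹_›⟩
    have he : g.appLE ⊤ ⊤ le_top = g.appTop := by
      rw [Scheme.Hom.appTop, Scheme.Hom.app_eq_appLE]
      rfl
    rw [← he] at h1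
    have h2 : ((Scheme.ΓSpecIso R).inv).hom.FaithfullyFlat :=
      RingHom.FaithfullyFlat.of_bijective (ConcreteCategory.bijective_of_isIso (Scheme.ΓSpecIso R).inv)
    exact RingHom.FaithfullyFlat.stableUnderComposition _ _ h2 h1
  intro P _ _
  have h3 := Module.FaithfullyFlat.tensorProduct_mk_injective (A := R) (B := Γ(V, ⊤)) P
  have h4 : ⇑(LinearMap.lTensor P (Algebra.linearMap R Γ(V, ⊤))) =
      (TensorProduct.comm R Γ(V, ⊤) P) ∘ (TensorProduct.mk R Γ(V, ⊤) P 1) ∘ (TensorProduct.rid R P) := by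
    funext z
    induction z using TensorProduct.induction_on with
    | zero => simp
    | tmul p r => simp [Algebra.algebraMap_eq_smul_one, TensorProduct.smul_tmul]
    | add x y hx hy => simp only [Function.comp_apply, map_add] at *; rw [hx, hy]
  rw [h4]
  exact (TensorProduct.comm R _ P).injective.comp (h3.comp (TensorProduct.rid R P).injective)

/-- A section of `tilde K` attached to an element. -/
noncomputable def topElt (K : ModuleCat.{u} R) (k : K) : Γ((tilde.functor R).obj K, ⊤) :=
  (tilde.toOpen K ⊤).hom k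

theorem hom_ext_tilde {K : ModuleCat.{u} R} {P : (Spec R).Modules} {a b : (tilde.functor R).obj K ⟶ P}
    (h : ∀ k, a.app ⊤ (topElt K k) = b.app ⊤ (topElt K k)) : a = b := by
  apply ((Groth.Agent.Lib.QCoh.Tilde.specAdj R).homEquiv K P).injective
  ext k
  exact h k

theorem exists_hom_tilde {K : ModuleCat.{u} R} {P : (Spec R).Modules} (l : K → Γ(P, ⊤))
    (hadd : ∀ x y, l (x + y) = l x + l y)
    (hsmul : ∀ (r : R) x, l (r • x) = (Scheme.ΓSpecIso R).inv.hom r • l x) :
    ∃ a : (tilde.functor R).obj K ⟶ P, ∀ k, a.app ⊤ (topElt K k) = l k := by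
  let f : K ⟶ (Groth.Agent.Lib.QCoh.Tilde.specΓ R).obj P := ModuleCat.ofHom (Y := (Groth.Agent.Lib.QCoh.Tilde.specΓ R).obj P)
    { toFun := fun k => l k
      map_add' := hadd
      map_smul' := fun r x => hsmul r x }
  refine ⟨((Groth.Agent.Lib.QCoh.Tilde.specAdj R).homEquiv K P).symm f, fun k => ?_⟩
  have h := ((Groth.Agent.Lib.QCoh.Tilde.specAdj R).homEquiv K P).apply_symm_apply f
  exact congr($h k)

theorem pushforward_smul (Q : V.Modules) (r : R) (x : Γ(Q, g ⁻¹ᵁ ⊤)) :
    (Scheme.ΓSpecIso R).inv.hom r • (show Γ((Scheme.Modules.pushforward g).obj Q, ⊤) from x) =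
      (show Γ((Scheme.Modules.pushforward g).obj Q, ⊤) from (str g).hom r • (show Γ(Q, ⊤) from x)) := by
  show g.app ⊤ ((Scheme.ΓSpecIso R).inv.hom r) • x = _
  have he : g.appLE ⊤ ⊤ le_top = g.app ⊤ := by
    rw [Scheme.Hom.app_eq_appLE]
    rfl
  show _ = (g.appLE ⊤ ⊤ le_top).hom ((Scheme.ΓSpecIso R).inv.hom r) • (show Γ(Q, ⊤) from x)
  rw [he]
  rfl

variable [IsAffine V] [Flat g] [Surjective g] (M : (Spec R).Modules)

/-- Descent of quasi-coherence. -/
theorem isQCoh_of_pullback [((Scheme.Modules.pullback g).obj M).IsQuasicoherent] : M.IsQuasicoherent := by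
  letI := (str g).hom.toAlgebra
  haveI : IsScalarTower R Γ(V, ⊤) (Sec M g) := IsScalarTower.of_algebraMap_smul fun _ _ => rfl
  obtain ⟨θ, hθ, hfix⟩ := exists_coaction g M
  have hcmp := RingDescent.compare_bijective θ (univInjective_str g) hθ
  let K : ModuleCat.{u} R := ModuleCat.of R (RingDescent.fixed θ)
  let M' : (Spec R).Modules := (tilde.functor R).obj K
  haveI : M'.IsQuasicoherent := Groth.Agent.Lib.QCoh.Tilde.isQCoh_tildeFunctor_obj K
  let N := (Scheme.Modules.pullback g).obj M
  obtain ⟨ι₀, hι₀⟩ := exists_hom_tilde (K := K) (P := (Scheme.Modules.pushforward g).obj N)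
    (fun k => (k.1 : Sec M g)) (fun _ _ => rfl) (fun r k => (pushforward_smul g N r k.1).symm)
  let β : (Scheme.Modules.pullback g).obj M' ⟶ N :=
    ((Scheme.Modules.pullbackPushforwardAdjunction g).homEquiv _ _).symm ι₀
  have hι : (Scheme.Modules.pullbackPushforwardAdjunction g).homEquiv _ _ β = ι₀ := Equiv.apply_symm_apply _ _
  have hpb : ∀ k : K, pbRes g M' (U := ⊤) (le_top : (⊤ : V.Opens) ≤ g ⁻¹ᵁ ⊤) (topElt K k) =
      (((Scheme.Modules.pullbackPushforwardAdjunction g).unit.app M').app ⊤ (topElt K k)) := fun k =>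
    ConcreteCategory.congr_hom (((Scheme.Modules.pullback g).obj M').presheaf.map_id _) _
  have hβ : ∀ k : K, β.app ⊤ (pbRes g M' (U := ⊤) (le_top : (⊤ : V.Opens) ≤ g ⁻¹ᵁ ⊤) (topElt K k)) = k.1 := fun k => by
    rw [hpb, ← hι₀ k, ← hι, Adjunction.homEquiv_unit]
    rfl
  have he : g.appLE ⊤ ⊤ le_top = g.appTop := by
    rw [Scheme.Hom.appTop, Scheme.Hom.app_eq_appLE]
    rfl
  have hβtop : Function.Bijective (β.app ⊤) := by
    letI algA := (g.appLE ⊤ ⊤ le_top).hom.toAlgebra
    let T : Γ(V, ⊤) ⊗[R] K →+ Γ((Scheme.Modules.pullback g).obj M', ⊤) :=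
      TensorProduct.liftAddHom
        { toFun := fun b =>
            { toFun := fun k => b • pbRes g M' (U := ⊤) (le_top : (⊤ : V.Opens) ≤ g ⁻¹ᵁ ⊤) (topElt K k)
              map_zero' := by simp [topElt]
              map_add' := fun k k' => by simp [topElt, smul_add] }
          map_zero' := by ext k; exact zero_smul _ _
          map_add' := fun b b' => by ext k; exact add_smul _ _ _ }
        (fun r b k => by
          show (r • b) • pbRes g M' (U := ⊤) (le_top : (⊤ : V.Opens) ≤ g ⁻¹ᵁ ⊤) (topElt K k) = b • pbRes g M' (U := ⊤) (le_top : (⊤ : V.Opens) ≤ g ⁻¹ᵁ ⊤) (topElt K (r • k))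
          have h1 : topElt K (r • k) = (Scheme.ΓSpecIso R).inv.hom r • topElt K k := map_smul (tilde.toOpen K ⊤).hom r k
          rw [h1, pbRes_smul, ← mul_smul]
          congr 1
          exact mul_comm _ _)
    have hT : Function.Surjective T := by
      intro y
      obtain ⟨z, rfl⟩ := (bijective_pbTensor g M' (isAffineOpen_top _) (isAffineOpen_top V) le_top).surjective y
      induction z using TensorProduct.induction_on with
      | zero => exact ⟨0, by simp⟩
      | tmul b m =>
        obtain ⟨k, rfl⟩ := (ConcreteCategory.bijective_of_isIso (tilde.toOpen K ⊤)).surjective m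
        exact ⟨b ⊗ₜ k, rfl⟩
      | add x y hx hy =>
        obtain ⟨a, ha⟩ := hx
        obtain ⟨c, hc⟩ := hy
        exact ⟨a + c, by rw [map_add, ha, hc, map_add]⟩
    have hcomp : ⇑(β.app ⊤) ∘ T = RingDescent.compare θ := by
      funext z
      induction z using TensorProduct.induction_on with
      | zero => simp only [Function.comp_apply, map_zero]
      | tmul b k =>
        show β.app ⊤ (b • pbRes g M' (U := ⊤) (le_top : (⊤ : V.Opens) ≤ g ⁻¹ᵁ ⊤) (topElt K k)) = _
        rw [Scheme.Modules.Hom.app_smul, hβ]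
        rfl
      | add x y hx hy => simp only [Function.comp_apply, map_add] at *; rw [hx, hy]
    refine ⟨fun a b hab => ?_, fun y => ?_⟩
    · obtain ⟨a, rfl⟩ := hT a
      obtain ⟨b, rfl⟩ := hT b
      exact congrArg T (hcmp.injective (by rw [← hcomp]; exact hab))
    · obtain ⟨z, hz⟩ := hcmp.surjective y
      exact ⟨T z, (congrFun hcomp z).trans hz⟩
  haveI := Groth.Agent.Lib.QCoh.Pullback.isQCoh_pullback g M'
  haveI := isIso_of_app_top_bijective β hβtop
  have hβc : ∀ ⦃T : Scheme.{u}⦄ (q : T ⟶ Spec R) (a b : T ⟶ V) (ha : a ≫ g = q) (hb : b ≫ g = q),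
      conj M' M a ha β = conj M' M b hb β := by
    intro T q a b ha hb
    apply ((Scheme.Modules.pullbackPushforwardAdjunction q).homEquiv _ _).injective
    refine hom_ext_tilde fun k => ?_
    rw [Adjunction.homEquiv_unit, Adjunction.homEquiv_unit]
    show (conj M' M a ha β).app (q ⁻¹ᵁ ⊤) (((Scheme.Modules.pullbackPushforwardAdjunction q).unit.app M').app ⊤ (topElt K k)) =
      (conj M' M b hb β).app (q ⁻¹ᵁ ⊤) (((Scheme.Modules.pullbackPushforwardAdjunction q).unit.app M').app ⊤ (topElt K k))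
    have h0 : ((Scheme.Modules.pullbackPushforwardAdjunction q).unit.app M').app ⊤ (topElt K k) =
        pbRes q M' (U := ⊤) (le_top : (⊤ : T.Opens) ≤ q ⁻¹ᵁ ⊤) (topElt K k) :=
      (ConcreteCategory.congr_hom (((Scheme.Modules.pullback q).obj M').presheaf.map_id _) _).symm
    have hc : ∀ (c : T ⟶ V) (hc : c ≫ g = q),
        (conj M' M c hc β).app ⊤ (pbRes q M' (U := ⊤) (le_top : (⊤ : T.Opens) ≤ q ⁻¹ᵁ ⊤) (topElt K k)) =
          Rs M c hc (show Sec M g from k.1) := by
      intro c hc
      rw [← R_pbRes c hc M' (U := ⊤) (W := ⊤) (W' := ⊤) le_top le_top (topElt K k), ← R_app, hβ]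
      rfl
    rw [h0]
    refine (hc a ha).trans (Eq.trans ?_ (hc b hb).symm)
    let p₁ := pullback.fst g g
    let p₂ := pullback.snd g g
    let l : T ⟶ pullback g g := pullback.lift a b (ha.trans hb.symm)
    have hl₁ : l ≫ p₁ = a := pullback.lift_fst _ _ _
    have hl₂ : l ≫ p₂ = b := pullback.lift_snd _ _ _
    have hlq : l ≫ p₁ ≫ g = q := by rw [← Category.assoc, hl₁, ha]
    have h := congrArg (Rs M l hlq) ((hfix k.1).1 k.2)
    rw [Rs_comp M p₁ l a rfl hlq hl₁, Rs_comp M p₂ l b pullback.condition.symm hlq hl₂] at h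
    exact h
  have hinv : ∀ ⦃T : Scheme.{u}⦄ (q : T ⟶ Spec R) (c : T ⟶ V) (hc : c ≫ g = q),
      conj M M' c hc (inv β) ≫ conj M' M c hc β = 𝟙 _ := by
    intro T q c hc
    simp only [conj, Category.assoc, Iso.hom_inv_id_assoc]
    rw [← Functor.map_comp_assoc, IsIso.inv_hom_id, CategoryTheory.Functor.map_id, Category.id_comp,
      Iso.inv_hom_id]
  have hinv' : ∀ ⦃T : Scheme.{u}⦄ (q : T ⟶ Spec R) (c : T ⟶ V) (hc : c ≫ g = q),
      conj M' M c hc β ≫ conj M M' c hc (inv β) = 𝟙 _ := by
    intro T q c hc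
    simp only [conj, Category.assoc, Iso.hom_inv_id_assoc]
    rw [← Functor.map_comp_assoc, IsIso.hom_inv_id, CategoryTheory.Functor.map_id, Category.id_comp,
      Iso.inv_hom_id]
  have hcov : Sieve.ofArrows (fun _ : PUnit.{u + 1} => V) (fun _ => g) ∈ Scheme.fpqcTopology (Spec R) := by
    refine Scheme.fpqcTopology.superset_covering (le_of_eq ?_)
      (Precoverage.generate_mem_toGrothendieck g.singleton_mem_fpqcPrecoverage)
    rw [← Presieve.ofArrows_pUnit.{u} g]
  obtain ⟨φ, hφ⟩ := exists_hom (M₀ := M) (N₀ := M') (fun _ : PUnit.{u + 1} => g) hcov (fun _ => inv β)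
    (fun T q _ _ a b ha hb => by
      rw [← Category.id_comp (conj M M' a ha (inv β)), ← hinv q b hb, Category.assoc, ← hβc q a b ha hb,
        hinv' q a ha, Category.comp_id])
  haveI : IsIso φ := Groth.Agent.Lib.Flat55.FlatFunSheaf.isIso_of_pullback (fun _ : PUnit.{u + 1} => g)
    (fun _ => inferInstance) (fun x => ⟨PUnit.unit, g.surjective x⟩) φ (fun i => by rw [hφ i]; infer_instance)
  exact (SheafOfModules.isQuasicoherent.{u} (Spec R).ringCatSheaf).prop_of_iso (asIso φ).symm inferInstance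

end Groth.Agent.Lib.DescAlg.PbSec
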