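import Groth.Agent.Lib.DescAlg.PbSecSheaf
import Groth.Prelude.Def_EtAssoc2
import Mathlib.AlgebraicGeometry.Sites.Etale

/-!
# The sheaf of sections of a quasi-coherent module on the small étale site
-/

set_option autoImplicit false
set_option backward.isDefEq.respectTransparency false
set_option backward.isDefEq.respectTransparency.types false
set_option linter.style.haveILetI false
universe u

open CategoryTheory CategoryTheory.Limits AlgebraicGeometry Opposite TopologicalSpace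

namespace Groth.Agent.Lib.DescAlg.PbSec

theorem etaleTopology_le_fpqcTopology : Scheme.etaleTopology.{u} ≤ Scheme.fpqcTopology :=
  le_trans (Scheme.grothendieckTopology_monotone fun _ _ f (_ : Etale f) => ⟨inferInstance, inferInstance⟩)
    Scheme.fppfTopology_le_fpqcTopology

variable {X : Scheme.{u}} (M : X.Modules) [M.IsQuasicoherent]

theorem existsUnique_of_etaleCover' {T : Scheme.{u}} (t : T ⟶ X) (𝒰 : T.Cover (Scheme.precoverage @Etale))
    (y : ∀ i, Γ((Scheme.Modules.pullback (𝒰.f i ≫ t)).obj M, ⊤))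
    (hy : ∀ i j, R (pullback.fst (𝒰.f i) (𝒰.f j)) (rfl : pullback.fst (𝒰.f i) (𝒰.f j) ≫ 𝒰.f i ≫ t = _) M
        (W' := ⊤) le_top (y i) =
      R (pullback.snd (𝒰.f i) (𝒰.f j)) (pullback.condition_assoc t).symm M (W' := ⊤) le_top (y j)) :
    ∃! s : Γ((Scheme.Modules.pullback t).obj M, ⊤), ∀ i, R (𝒰.f i) rfl M (W' := ⊤) le_top s = y i := by
  have hmem : Sieve.generate (Presieve.ofArrows 𝒰.X 𝒰.f) ∈ Scheme.fpqcTopology T :=
    etaleTopology_le_fpqcTopology T (Scheme.Cover.mem_grothendieckTopology 𝒰)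
  have hS : Presieve.IsSheafFor (sigmaPresheaf M) (Presieve.ofArrows 𝒰.X 𝒰.f) :=
    (Presieve.isSheafFor_iff_generate _).2 ((isSheaf_sigmaPresheaf M) _ hmem)
  have hY : Presieve.IsSheafFor (yoneda.obj X) (Presieve.ofArrows 𝒰.X 𝒰.f) :=
    (Presieve.isSheafFor_iff_generate _).2
      (GrothendieckTopology.Subcanonical.isSheaf_of_isRepresentable (J := Scheme.fpqcTopology) _ _ hmem)
  rw [Presieve.isSheafFor_arrows_iff_pullbacks] at hS
  obtain ⟨⟨t', s⟩, hs, hsu⟩ := hS (fun i => ⟨𝒰.f i ≫ t, y i⟩) (fun i j => by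
    refine (sigma_R_eq M rfl (y i) (hy i j)).trans ?_
    exact (sigma_R_eq M (pullback.condition_assoc t).symm (y j) rfl).symm)
  obtain rfl : t' = t := hY.isSeparatedFor.ext fun Y f hf => by
    obtain ⟨i⟩ := hf
    exact congrArg Sigma.fst (hs i)
  refine ⟨s, fun i => R_subst M _ rfl s (hs i), fun s' hs' => ?_⟩
  exact eq_of_heq (Sigma.mk.inj_iff.1 (hsu ⟨t', s'⟩ fun i => sigma_R_eq M rfl s' (hs' i))).2

theorem existsUnique_of_etaleCover {T : Scheme.{u}} (t : T ⟶ X) (𝒰 : T.Cover (Scheme.precoverage @Etale))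
    (a : ∀ i, 𝒰.X i ⟶ X) (ha : ∀ i, (𝒰.f i ≫ t : 𝒰.X i ⟶ X) = a i)
    (y : ∀ i, Γ((Scheme.Modules.pullback (a i)).obj M, ⊤))
    (hy : ∀ i j (h : pullback.snd (𝒰.f i) (𝒰.f j) ≫ a j = pullback.fst (𝒰.f i) (𝒰.f j) ≫ a i),
      R (pullback.fst (𝒰.f i) (𝒰.f j)) rfl M (W' := ⊤) le_top (y i) =
      R (pullback.snd (𝒰.f i) (𝒰.f j)) h M (W' := ⊤) le_top (y j)) :
    ∃! s : Γ((Scheme.Modules.pullback t).obj M, ⊤), ∀ i, R (𝒰.f i) (ha i) M (W' := ⊤) le_top s = y i := by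
  obtain rfl : a = fun i => 𝒰.f i ≫ t := funext fun i => (ha i).symm
  exact existsUnique_of_etaleCover' M t 𝒰 y fun i j => hy i j _

/-- The presheaf on the small étale site. -/
noncomputable def etPresheaf : X.Etaleᵒᵖ ⥤ AddCommGrpCat.{u + 1} where
  obj U := AddCommGrpCat.of (ULift.{u + 1} Γ((Scheme.Modules.pullback U.unop.hom).obj M, ⊤))
  map g := AddCommGrpCat.ofHom
    ((AddEquiv.ulift.symm.toAddMonoidHom.comp
      (R g.unop.left (Over.w g.unop.hom) M (W := ⊤) (W' := ⊤) le_top)).comp AddEquiv.ulift.toAddMonoidHom)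
  map_id U := by
    ext ⟨x⟩
    exact ((R_id M (W := ⊤) (W' := ⊤) le_rfl x).trans
      (ConcreteCategory.congr_hom (((Scheme.Modules.pullback U.unop.hom).obj M).presheaf.map_id _) x))
  map_comp g g' := by
    ext ⟨x⟩
    exact ((R_comp g.unop.left g'.unop.left _ (Over.w g.unop.hom) (Over.w g'.unop.hom) rfl M
      (W := ⊤) (W' := ⊤) (W'' := ⊤) le_top le_top x).symm)

theorem isSheaf_etPresheaf : Presheaf.IsSheaf X.smallEtaleTopology (etPresheaf M) := by
  rw [Presheaf.isSheaf_iff_isSheaf_forget _ _ (CategoryTheory.forget AddCommGrpCat.{u + 1}), isSheaf_iff_isSheaf_of_type]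
  intro W Rs hR
  obtain ⟨𝒰, _, hP, hle⟩ := (Scheme.mem_smallGrothendieckTopology _ _).1 hR
  intro x hx
  let U : 𝒰.I₀ → X.Etale := fun i => (𝒰.X i).asOverProp X (hP i)
  let f : ∀ i, U i ⟶ W := fun i => (𝒰.f i).asOverProp X
  have hf : ∀ i, Rs (f i) := fun i => hle _ _ ⟨i⟩
  let a : ∀ i, 𝒰.X i ⟶ X := fun i => (U i).hom
  let y : ∀ i, Γ((Scheme.Modules.pullback (a i)).obj M, ⊤) := fun i => (x (f i) (hf i)).down
  have hc : ∀ i j (h : pullback.snd (𝒰.f i) (𝒰.f j) ≫ a j = pullback.fst (𝒰.f i) (𝒰.f j) ≫ a i),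
      R (pullback.fst (𝒰.f i) (𝒰.f j)) rfl M (W' := ⊤) le_top (y i) =
      R (pullback.snd (𝒰.f i) (𝒰.f j)) h M (W' := ⊤) le_top (y j) := fun i j h => by
    haveI : Etale (a i) := hP i
    haveI : Etale (𝒰.f i) := 𝒰.map_prop i
    haveI : Etale (𝒰.f j) := 𝒰.map_prop j
    let P : X.Etale := MorphismProperty.Over.mk _ (pullback.fst (𝒰.f i) (𝒰.f j) ≫ a i) (show Etale _ from inferInstance)
    let p₁ : P ⟶ U i := MorphismProperty.Over.homMk (pullback.fst (𝒰.f i) (𝒰.f j)) rfl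
    let p₂ : P ⟶ U j := MorphismProperty.Over.homMk (pullback.snd (𝒰.f i) (𝒰.f j)) h
    have hp : p₁ ≫ f i = p₂ ≫ f j := by
      exact MorphismProperty.Over.Hom.ext pullback.condition
    exact congrArg ULift.down (hx p₁ p₂ (hf i) (hf j) hp)
  obtain ⟨s, hs, hsu⟩ := existsUnique_of_etaleCover M W.hom 𝒰 a (fun i => Over.w (f i).hom) y hc
  refine ⟨⟨s⟩, fun Y g hg => ?_, fun s' hs' => ?_⟩
  · refine ULift.ext _ _ ?_
    show R g.left (Over.w g.hom) M (W := ⊤) (W' := ⊤) le_top s = (x g hg).down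
    let 𝒱 := 𝒰.pullback₁ g.left
    let b : ∀ i, 𝒱.X i ⟶ X := fun i => 𝒱.f i ≫ Y.hom
    have hv : ∀ i, pullback.snd g.left (𝒰.f i) ≫ a i = b i := fun i => by
      show pullback.snd g.left (𝒰.f i) ≫ (U i).hom = pullback.fst g.left (𝒰.f i) ≫ Y.hom
      exact (congrArg (pullback.snd g.left (𝒰.f i) ≫ ·) (Over.w (f i).hom)).symm.trans
        ((pullback.condition_assoc W.hom).symm.trans (congrArg (pullback.fst g.left (𝒰.f i) ≫ ·) (Over.w g.hom)))
    have key : ∀ i, R (𝒱.f i) (rfl : 𝒱.f i ≫ Y.hom = b i) M (W' := ⊤) le_top (x g hg).down =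
        R (pullback.snd g.left (𝒰.f i)) (hv i) M (W' := ⊤) le_top (y i) := fun i => by
      haveI : Etale Y.hom := Y.prop
      haveI : Etale (𝒱.f i) := Scheme.Cover.map_prop 𝒱 i
      let P : X.Etale := MorphismProperty.Over.mk _ (b i) (show Etale (𝒱.f i ≫ Y.hom) from inferInstance)
      let p₁ : P ⟶ Y := MorphismProperty.Over.homMk (𝒱.f i) rfl
      let p₂ : P ⟶ U i := MorphismProperty.Over.homMk (pullback.snd g.left (𝒰.f i)) (hv i)
      have hp : p₁ ≫ g = p₂ ≫ f i := by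
        exact MorphismProperty.Over.Hom.ext pullback.condition
      exact congrArg ULift.down (hx p₁ p₂ hg (hf i) hp)
    obtain ⟨_, _, hu⟩ := existsUnique_of_etaleCover M Y.hom 𝒱 b (fun i => rfl)
      (fun i => R (𝒱.f i) rfl M (W' := ⊤) le_top (x g hg).down) (fun i j h => by
        rw [R_comp (𝒱.f i) (pullback.fst (𝒱.f i) (𝒱.f j)) _ rfl rfl rfl M (W := ⊤) (W' := ⊤) (W'' := ⊤) le_top le_top,
          R_comp (𝒱.f j) (pullback.snd (𝒱.f i) (𝒱.f j)) _ rfl h pullback.condition.symm M (W := ⊤) (W' := ⊤) (W'' := ⊤) le_top le_top])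
    refine (hu _ fun i => ?_).trans (hu _ fun i => rfl).symm
    rw [key i, ← hs i, R_comp g.left (𝒱.f i) (𝒱.f i ≫ g.left) (Over.w g.hom) rfl rfl M (W := ⊤) (W' := ⊤) (W'' := ⊤) le_top le_top,
      R_comp (𝒰.f i) (pullback.snd g.left (𝒰.f i)) (𝒱.f i ≫ g.left) (Over.w (f i).hom) (hv i) pullback.condition.symm M
        (W := ⊤) (W' := ⊤) (W'' := ⊤) le_top le_top]
  · refine ULift.ext _ _ ?_
    exact hsu s'.down fun i => congrArg ULift.down (hs' (f i) (hf i))

/-- The sheaf associated to a quasi-coherent module exists. -/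
theorem exists_isAssoc : ∃ G : EtCoh.Ab X, EtAssoc.IsAssoc M G := by
  refine ⟨⟨etPresheaf M, isSheaf_etPresheaf M⟩, fun U => AddEquiv.refl _, fun U U' g s => ?_⟩
  show R g.left (Over.w g.hom) M (W := ⊤) (W' := ⊤) le_top s.down = EtAssoc.resMap M g s.down
  rw [R_eq]
  simp only [EtAssoc.resMap, EtAssoc.step1, EtAssoc.step2, EtAssoc.step2a, tr, Scheme.Modules.pullbackCongr,
    Iso.trans_hom, Iso.app_hom, eqToIso.hom, eqToHom_app]
  rfl

end Groth.Agent.Lib.DescAlg.PbSec
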