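import Groth.Prelude.Def_Desc
import Groth.Agent.Lib.DescAlg.PbSecHom

/-!
# The composition isomorphisms of `Desc.modPF`
-/

set_option autoImplicit false
set_option backward.isDefEq.respectTransparency false
set_option backward.isDefEq.respectTransparency.types false
universe u

open CategoryTheory Opposite AlgebraicGeometry
open CategoryTheory.Pseudofunctor

namespace Groth.Agent.Lib.DescAlg.PbSec

variable {X Y Z : Scheme.{u}}

theorem modPF_mapComp'_inv_app (g : Z ⟶ Y) (f : Y ⟶ X) (q : Z ⟶ X) (h : g ≫ f = q) (M : X.Modules) :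
    ((Desc.modPF.{u}).mapComp' f.op.toLoc g.op.toLoc q.op.toLoc (by rw [← h]; rfl)).inv.toNatTrans.app M =
      (tr g h M).hom := by
  subst h
  refine (congrArg (fun e => e.inv.toNatTrans.app M)
    (Pseudofunctor.mapComp'_eq_mapComp Desc.modPF f.op.toLoc g.op.toLoc)).trans ?_
  simp [Desc.modPF, tr, Scheme.Modules.pullbackCongr]
  exact Category.id_comp _

theorem modPF_mapComp'_hom_app (g : Z ⟶ Y) (f : Y ⟶ X) (q : Z ⟶ X) (h : g ≫ f = q) (M : X.Modules) :
    ((Desc.modPF.{u}).mapComp' f.op.toLoc g.op.toLoc q.op.toLoc (by rw [← h]; rfl)).hom.toNatTrans.app M =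
      (tr g h M).inv := by
  refine Eq.symm (Iso.inv_eq_inv (tr g h M)
    ((Cat.Hom.toNatIso ((Desc.modPF.{u}).mapComp' f.op.toLoc g.op.toLoc q.op.toLoc (by rw [← h]; rfl))).app M).symm |>.2 ?_)
  exact (modPF_mapComp'_inv_app g f q h M).symm

theorem ofObj_hom {S : Scheme.{u}} {ι : Type u} {V : ι → Scheme.{u}} (f : ∀ i, V i ⟶ S) (M : S.Modules)
    {T : Scheme.{u}} (q : T ⟶ S) {i j : ι} (a : T ⟶ V i) (b : T ⟶ V j) (ha : a ≫ f i = q) (hb : b ≫ f j = q) :
    (DescentData.ofObj (F := Desc.modPF.{u}) (f := f) M).hom q a b ha hb =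
      (tr a ha M).hom ≫ (tr b hb M).inv := by
  rw [← modPF_mapComp'_inv_app, ← modPF_mapComp'_hom_app]
  rfl

end Groth.Agent.Lib.DescAlg.PbSec
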