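import Groth.Agent.Lib.DescAlg.PbSecAffine
import Mathlib.AlgebraicGeometry.Sites.Fpqc
import Mathlib.AlgebraicGeometry.Sites.SheafQuasiCompact
import Mathlib.AlgebraicGeometry.EffectiveEpi
import Mathlib.Topology.Sheaves.SheafCondition.UniqueGluing

/-!
# The fpqc sheaf of sections of the inverse images of a quasi-coherent module
-/

set_option autoImplicit false
set_option backward.isDefEq.respectTransparency false
set_option backward.isDefEq.respectTransparency.types false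
set_option linter.style.haveILetI false
universe u

open CategoryTheory CategoryTheory.Limits AlgebraicGeometry Opposite TopologicalSpace
open ZarCoh.FlatBC.PullbackSections

namespace Groth.Agent.Lib.DescAlg.PbSec

variable {X Y Z : Scheme.{u}}

theorem R_bijective_of_isOpenImmersion (j : Z ⟶ Y) [IsOpenImmersion j] {u : Y ⟶ X} {v : Z ⟶ X}
    (h : j ≫ u = v) (M : X.Modules) {W : Y.Opens} (hW : W ≤ j.opensRange) :
    Function.Bijective (R j h M (W := W) (W' := j ⁻¹ᵁ W) le_rfl) := by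
  let N := (Scheme.Modules.pullback u).obj M
  have h1 := Adjunction.unit_leftAdjointUniq_hom_app (Scheme.Modules.restrictAdjunction j)
    (Scheme.Modules.pullbackPushforwardAdjunction j) N
  have h' : ((Scheme.Modules.pullbackPushforwardAdjunction j).unit.app N).app W =
      N.presheaf.map (homOfLE (j.image_preimage_le W)).op ≫
        ((Scheme.Modules.restrictFunctorIsoPullback j).hom.app N).app (j ⁻¹ᵁ W) := by
    rw [← h1]
    rfl
  have e : W ≤ j ''ᵁ j ⁻¹ᵁ W := fun x hx => by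
    obtain ⟨y, rfl⟩ := hW hx
    exact ⟨y, hx, rfl⟩
  have hi : IsIso (homOfLE (j.image_preimage_le W)) := ⟨homOfLE e, rfl, rfl⟩
  have hb : Function.Bijective (pbRes j N (le_refl (j ⁻¹ᵁ W))) := by
    have : ⇑(pbRes j N (le_refl (j ⁻¹ᵁ W))) =
        ((Scheme.Modules.pullbackPushforwardAdjunction j).unit.app N).app W := funext fun x =>
      ConcreteCategory.congr_hom (((Scheme.Modules.pullback j).obj N).presheaf.map_id _) _
    rw [this, h']
    exact (ConcreteCategory.bijective_of_isIso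
        (((Scheme.Modules.restrictFunctorIsoPullback j).hom.app N).app (j ⁻¹ᵁ W))).comp
      (ConcreteCategory.bijective_of_isIso (N.presheaf.map (homOfLE (j.image_preimage_le W)).op))
  have : ⇑(R j h M (W := W) (W' := j ⁻¹ᵁ W) le_rfl) =
      (tr j h M).hom.app (j ⁻¹ᵁ W) ∘ pbRes j N (le_refl (j ⁻¹ᵁ W)) :=
    funext fun x => R_eq j h M le_rfl x
  rw [this]
  exact (ConcreteCategory.bijective_of_isIso _).comp hb

theorem R_bijective_top (j : Z ⟶ Y) [IsOpenImmersion j] {u : Y ⟶ X} {v : Z ⟶ X} (h : j ≫ u = v)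
    (M : X.Modules) {W : Y.Opens} (hW : W ≤ j.opensRange) (hW' : ⊤ ≤ j ⁻¹ᵁ W) :
    Function.Bijective (R j h M (W' := ⊤) hW') := by
  have h0 : ⇑(R j h M (W' := ⊤) hW') =
      ((Scheme.Modules.pullback v).obj M).presheaf.map (homOfLE hW').op ∘
        R j h M (W := W) (W' := j ⁻¹ᵁ W) le_rfl :=
    funext fun x => (map_R j h M le_rfl hW' x).symm
  have hi : IsIso (homOfLE hW') := ⟨homOfLE le_top, rfl, rfl⟩
  rw [h0]
  exact (ConcreteCategory.bijective_of_isIso _).comp (R_bijective_of_isOpenImmersion j h M hW)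

variable (M : X.Modules)

theorem sigma_R_eq {T T' : Scheme.{u}} {g : T' ⟶ T} {t : T ⟶ X} {v : T' ⟶ X} (hv : g ≫ t = v)
    (x : Γ((Scheme.Modules.pullback t).obj M, ⊤)) {y : Γ((Scheme.Modules.pullback v).obj M, ⊤)}
    (h : R g hv M (W' := ⊤) le_top x = y) :
    (⟨g ≫ t, R g rfl M (W' := ⊤) le_top x⟩ : Σ s : T' ⟶ X, Γ((Scheme.Modules.pullback s).obj M, ⊤)) = ⟨v, y⟩ := by
  subst hv h
  rfl

/-- The presheaf `T ↦ Γ(T, t^* M)` on schemes over `X`. -/
noncomputable def bigPresheaf : (Over X)ᵒᵖ ⥤ AddCommGrpCat.{u} where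
  obj T := AddCommGrpCat.of Γ((Scheme.Modules.pullback T.unop.hom).obj M, ⊤)
  map g := AddCommGrpCat.ofHom (R g.unop.left (Over.w g.unop) M (W := ⊤) (W' := ⊤) le_top)
  map_id T := by
    ext x
    exact (R_id M (W := ⊤) (W' := ⊤) le_rfl x).trans
      (ConcreteCategory.congr_hom (((Scheme.Modules.pullback T.unop.hom).obj M).presheaf.map_id _) x)
  map_comp g g' := by
    ext x
    exact (R_comp g.unop.left g'.unop.left _ (Over.w g.unop) (Over.w g'.unop) rfl M (W := ⊤) (W' := ⊤) (W'' := ⊤)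
      le_top le_top x).symm

/-- The presheaf of pairs of a morphism to `X` and a section of the inverse image. -/
noncomputable def sigmaPresheaf : Scheme.{u}ᵒᵖ ⥤ Type u where
  obj T := Σ t : T.unop ⟶ X, Γ((Scheme.Modules.pullback t).obj M, ⊤)
  map g := ↾fun p => ⟨g.unop ≫ p.1, R g.unop rfl M (W' := ⊤) le_top p.2⟩
  map_id T := by
    refine ConcreteCategory.hom_ext _ _ fun p => ?_
    obtain ⟨t, x⟩ := p
    refine sigma_R_eq M (Category.id_comp t) x ?_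
    exact ((R_id M (W := ⊤) (W' := ⊤) le_rfl x).trans
      (ConcreteCategory.congr_hom (((Scheme.Modules.pullback t).obj M).presheaf.map_id _) x))
  map_comp g g' := by
    refine ConcreteCategory.hom_ext _ _ fun p => ?_
    obtain ⟨t, x⟩ := p
    refine sigma_R_eq M (Category.assoc g'.unop g.unop t) x ?_
    exact (R_comp g.unop g'.unop _ rfl rfl rfl M (W := ⊤) (W' := ⊤) (W'' := ⊤) le_top le_top x).symm

theorem R_subst {T T' : Scheme.{u}} (g : T' ⟶ T) {t : T ⟶ X} {v : T' ⟶ X} (h : g ≫ t = v)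
    (x : Γ((Scheme.Modules.pullback t).obj M, ⊤)) {y : Γ((Scheme.Modules.pullback v).obj M, ⊤)}
    (hxy : (⟨g ≫ t, R g rfl M (W' := ⊤) le_top x⟩ : Σ s : T' ⟶ X, Γ((Scheme.Modules.pullback s).obj M, ⊤)) = ⟨v, y⟩) :
    R g h M (W' := ⊤) le_top x = y := by
  subst h
  obtain ⟨-, h2⟩ := Sigma.mk.inj_iff.1 hxy
  exact eq_of_heq h2

theorem R_eq_of_sigma {T T₁ T₂ : Scheme.{u}} (g₁ : T ⟶ T₁) (g₂ : T ⟶ T₂) {t₁ : T₁ ⟶ X} {t₂ : T₂ ⟶ X}
    {w : T ⟶ X} (h₁ : g₁ ≫ t₁ = w) (h₂ : g₂ ≫ t₂ = w)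
    (x₁ : Γ((Scheme.Modules.pullback t₁).obj M, ⊤)) (x₂ : Γ((Scheme.Modules.pullback t₂).obj M, ⊤))
    (hxy : (⟨g₁ ≫ t₁, R g₁ rfl M (W' := ⊤) le_top x₁⟩ : Σ s : T ⟶ X, Γ((Scheme.Modules.pullback s).obj M, ⊤)) =
      ⟨g₂ ≫ t₂, R g₂ rfl M (W' := ⊤) le_top x₂⟩) :
    R g₁ h₁ M (W' := ⊤) le_top x₁ = R g₂ h₂ M (W' := ⊤) le_top x₂ := by
  refine R_subst M g₁ h₁ x₁ (hxy.trans ?_)
  exact sigma_R_eq M h₂ x₂ rfl

theorem isSheafFor_openCover {T : Scheme.{u}} (𝒰 : T.OpenCover) :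
    Presieve.IsSheafFor (sigmaPresheaf M) (Presieve.ofArrows 𝒰.X 𝒰.f) := by
  rw [Presieve.isSheafFor_arrows_iff]
  intro x hx
  let a : ∀ i, 𝒰.X i ⟶ X := fun i => (x i).1
  let y : ∀ i, Γ((Scheme.Modules.pullback (a i)).obj M, ⊤) := fun i => (x i).2
  have hc : ∀ i j (T' : Scheme.{u}) (gi : T' ⟶ 𝒰.X i) (gj : T' ⟶ 𝒰.X j), gi ≫ 𝒰.f i = gj ≫ 𝒰.f j →
      (⟨gi ≫ a i, R gi rfl M (W' := ⊤) le_top (y i)⟩ : Σ s : T' ⟶ X, Γ((Scheme.Modules.pullback s).obj M, ⊤)) =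
        ⟨gj ≫ a j, R gj rfl M (W' := ⊤) le_top (y j)⟩ := fun i j T' gi gj h => hx i j T' gi gj h
  have hd : ∀ i j, pullback.fst (𝒰.f i) (𝒰.f j) ≫ a i = pullback.snd (𝒰.f i) (𝒰.f j) ≫ a j :=
    fun i j => congrArg Sigma.fst (hc i j _ _ _ pullback.condition)
  let t : T ⟶ X := 𝒰.glueMorphisms a hd
  have ht : ∀ i, 𝒰.f i ≫ t = a i := fun i => 𝒰.ι_glueMorphisms a hd i
  let U : 𝒰.I₀ → T.Opens := fun i => (𝒰.f i).opensRange
  have hU : ∀ i, (⊤ : (𝒰.X i).Opens) ≤ 𝒰.f i ⁻¹ᵁ U i := fun i z _ => ⟨z, rfl⟩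
  choose sf hsf using fun i => (R_bijective_top (𝒰.f i) (ht i) M (le_refl (U i)) (hU i)).surjective (y i)
  let G : TopCat.Sheaf Ab T.carrier :=
    ⟨((Scheme.Modules.pullback t).obj M).presheaf, ((Scheme.Modules.pullback t).obj M).isSheaf⟩
  have hcov : (⊤ : T.Opens) ≤ iSup U := fun z _ => by
    obtain ⟨i, w, rfl⟩ := 𝒰.exists_eq z
    exact TopologicalSpace.Opens.mem_iSup.2 ⟨i, w, rfl⟩
  have hcomp : TopCat.Presheaf.IsCompatible G.1 U sf := by
    intro i j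
    let P := pullback (𝒰.f i) (𝒰.f j)
    let p := pullback.fst (𝒰.f i) (𝒰.f j) ≫ 𝒰.f i
    have hr : U i ⊓ U j ≤ p.opensRange := by
      rintro z ⟨⟨w, rfl⟩, ⟨w', hw'⟩⟩
      obtain ⟨v, hv, -⟩ := Scheme.Pullback.exists_preimage_pullback (f := 𝒰.f i) (g := 𝒰.f j) w w' hw'.symm
      exact ⟨v, by rw [← hv]; rfl⟩
    have hr' : (⊤ : P.Opens) ≤ p ⁻¹ᵁ (U i ⊓ U j) := fun z _ => ⟨⟨_, rfl⟩, ⟨pullback.snd (𝒰.f i) (𝒰.f j) z, by
      show (pullback.snd (𝒰.f i) (𝒰.f j) ≫ 𝒰.f j) z = p z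
      rw [← pullback.condition]⟩⟩
    have hp : p ≫ t = pullback.fst (𝒰.f i) (𝒰.f j) ≫ a i := by
      simp only [p, Category.assoc, ht]
    apply (R_bijective_top p hp M hr hr').injective
    refine (R_map p hp M inf_le_left hr' _).trans (Eq.trans ?_ (R_map p hp M inf_le_right hr' _).symm)
    rw [← R_comp (𝒰.f i) (pullback.fst (𝒰.f i) (𝒰.f j)) p (ht i) rfl rfl M (W' := ⊤) (hU i) le_top (sf i),
      ← R_comp (𝒰.f j) (pullback.snd (𝒰.f i) (𝒰.f j)) p (ht j) (hd i j).symm pullback.condition.symm M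
        (W' := ⊤) (hU j) le_top (sf j), hsf i, hsf j]
    exact R_eq_of_sigma M _ _ rfl (hd i j).symm _ _ (hc i j _ _ _ pullback.condition)
  obtain ⟨s, hs, hsu⟩ := G.existsUnique_gluing' U ⊤ (fun i => homOfLE le_top) hcov sf hcomp
  have key : ∀ s' i, (R (𝒰.f i) (ht i) M (W' := ⊤) le_top s' = y i ↔
      ((Scheme.Modules.pullback t).obj M).presheaf.map (homOfLE (le_top : U i ≤ ⊤)).op s' = sf i) := by
    intro s' i
    rw [← (R_bijective_top (𝒰.f i) (ht i) M (le_refl (U i)) (hU i)).injective.eq_iff, R_map, hsf i]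
  refine ⟨⟨t, s⟩, fun i => sigma_R_eq M (ht i) s ((key s i).2 (hs i)), ?_⟩
  rintro ⟨t', s'⟩ hs'
  obtain rfl : t' = t := 𝒰.hom_ext _ _ fun i => (congrArg Sigma.fst (hs' i)).trans (ht i).symm
  obtain rfl : s' = s := hsu s' fun i => (key s' i).1 (R_subst M _ (ht i) s' (hs' i))
  rfl

theorem isSheafFor_singleton_affine [M.IsQuasicoherent] {T V : Scheme.{u}} [IsAffine T] [IsAffine V]
    (g : V ⟶ T) [Flat g] [Surjective g] :
    Presieve.IsSheafFor (sigmaPresheaf M) (.singleton g) := by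
  rw [Presieve.isSheafFor_singleton]
  rintro ⟨v, x⟩ hx
  have hc : ∀ {W : Scheme.{u}} (p₁ p₂ : W ⟶ V), p₁ ≫ g = p₂ ≫ g →
      (⟨p₁ ≫ v, R p₁ rfl M (W' := ⊤) le_top x⟩ : Σ s : W ⟶ X, Γ((Scheme.Modules.pullback s).obj M, ⊤)) =
        ⟨p₂ ≫ v, R p₂ rfl M (W' := ⊤) le_top x⟩ := fun p₁ p₂ h => hx p₁ p₂ h
  have : IsRegularEpi g := isRegularEpi_of_flat_of_surjective_of_isAffine g
  let t : T ⟶ X := EffectiveEpi.desc g v fun g₁ g₂ hg => congrArg Sigma.fst (hc g₁ g₂ hg)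
  have ht : g ≫ t = v := EffectiveEpi.fac g v _
  have hd : pullback.fst g g ≫ v = pullback.snd g g ≫ v := congrArg Sigma.fst (hc _ _ pullback.condition)
  obtain ⟨y, hy⟩ := exists_R_eq g ht M rfl hd.symm x (R_eq_of_sigma M _ _ rfl hd.symm x x (hc _ _ pullback.condition))
  refine ⟨⟨t, y⟩, sigma_R_eq M ht y hy, ?_⟩
  rintro ⟨t', y'⟩ hy'
  obtain rfl : t' = t := (cancel_epi g).1 ((congrArg Sigma.fst hy').trans ht.symm)
  obtain rfl : y' = y := R_injective g ht M ((R_subst M g ht y' hy').trans hy.symm)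
  rfl

theorem isSheaf_sigmaPresheaf [M.IsQuasicoherent] :
    Presieve.IsSheaf Scheme.fpqcTopology (sigmaPresheaf M) := by
  rw [Scheme.fpqcTopology_eq_propQCTopology, AlgebraicGeometry.isSheaf_type_propQCTopology_iff]
  refine ⟨?_, fun {R S} f hf hs => ?_⟩
  · rw [Scheme.zariskiTopology, Precoverage.isSheaf_toGrothendieck_iff_of_isStableUnderBaseChange_of_small.{u}]
    intro T (𝒰 : T.OpenCover)
    exact isSheafFor_openCover M 𝒰
  · haveI := hf
    haveI := hs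
    exact isSheafFor_singleton_affine M (Spec.map f)

end Groth.Agent.Lib.DescAlg.PbSec
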