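import Mathlib.AlgebraicGeometry.Cover.MorphismProperty

/-!
Membership in precoverages of schemes.
-/

set_option autoImplicit false

universe u

open CategoryTheory AlgebraicGeometry

namespace Groth.Agent.Lib.DescAlg.Precov

theorem exists_mem {P : MorphismProperty Scheme.{u}} {X : Scheme.{u}} {R : Presieve X}
    (hR : R ∈ Scheme.precoverage P X) (x : X) :
    ∃ (U : Scheme.{u}) (g : U ⟶ X), R g ∧ x ∈ Set.range g := by
  obtain ⟨E, rfl⟩ := R.exists_eq_preZeroHypercover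
  obtain ⟨i, hi⟩ := ((Scheme.presieve₀_mem_precoverage_iff E).1 hR).1 x
  exact ⟨E.X i, E.f i, ⟨i⟩, hi⟩

theorem prop_of_mem {P : MorphismProperty Scheme.{u}} {X : Scheme.{u}} {R : Presieve X}
    (hR : R ∈ Scheme.precoverage P X) {U : Scheme.{u}} {g : U ⟶ X} (hg : R g) : P g := by
  obtain ⟨E, rfl⟩ := R.exists_eq_preZeroHypercover
  obtain ⟨i⟩ := hg
  exact ((Scheme.presieve₀_mem_precoverage_iff E).1 hR).2 i

theorem exists_small {P : MorphismProperty Scheme.{u}} {X : Scheme.{u}} {R : Presieve X}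
    (hR : R ∈ Scheme.precoverage P X) :
    ∃ (U : X → Scheme.{u}) (g : ∀ x, U x ⟶ X), (∀ x, R (g x)) ∧ ∀ x, x ∈ Set.range (g x) := by
  choose U g hg hx using exists_mem hR
  exact ⟨U, g, hg, hx⟩

theorem ofArrows_mem {P : MorphismProperty Scheme.{u}} {X : Scheme.{u}} {ι : Type u}
    (U : ι → Scheme.{u}) (g : ∀ i, U i ⟶ X) (hs : ∀ x, ∃ i, x ∈ Set.range (g i))
    (hP : ∀ i, P (g i)) : Presieve.ofArrows U g ∈ Scheme.precoverage P X :=
  (Scheme.presieve₀_mem_precoverage_iff (⟨ι, U, g⟩ : PreZeroHypercover X)).2 ⟨hs, hP⟩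

end Groth.Agent.Lib.DescAlg.Precov
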