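import Mathlib.RingTheory.Flat.FaithfullyFlat.Algebra
import Mathlib.RingTheory.RingHom.Flat
import Mathlib.RingTheory.RingHom.FaithfullyFlat
import Mathlib.LinearAlgebra.TensorProduct.Tower

/-!
Flatness descends along maps which become faithfully flat after composing (pure maps).
-/

set_option autoImplicit false

namespace Groth.Agent.Lib.DescAlg.Pure

open TensorProduct

theorem module_flat_of_tower (A B C D : Type*) [CommRing A] [CommRing B] [CommRing C] [CommRing D]
    [Algebra A B] [Algebra A C] [Algebra A D] [Algebra B C] [Algebra B D] [Algebra C D]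
    [IsScalarTower A B C] [IsScalarTower A B D] [IsScalarTower A C D] [IsScalarTower B C D]
    [Module.FaithfullyFlat B D] [Module.Flat A C] : Module.Flat A B := by
  rw [Module.Flat.iff_lTensor_preserves_injective_linearMap]
  intro N M _ _ _ _ φ hφ
  have h1 : Function.Injective (φ.lTensor C) :=
    Module.Flat.lTensor_preserves_injective_linearMap φ hφ
  let i : B →ₗ[A] C := (IsScalarTower.toAlgHom A B C).toLinearMap
  let j : B →ₗ[A] D := (IsScalarTower.toAlgHom A B D).toLinearMap
  let k : C →ₗ[A] D := (IsScalarTower.toAlgHom A C D).toLinearMap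
  have hj : Function.Injective (j.rTensor N) := by
    intro a b hab
    apply Module.FaithfullyFlat.tensorProduct_mk_injective (A := B) (B := D) (B ⊗[A] N)
    apply (AlgebraTensorModule.cancelBaseChange A B B D N).injective
    have e : ∀ z, AlgebraTensorModule.cancelBaseChange A B B D N ((1 : D) ⊗ₜ[B] z) =
        j.rTensor N z := by
      intro z
      induction z using TensorProduct.induction_on with
      | zero => simp
      | tmul b n => simp [j, Algebra.smul_def]
      | add _ _ h1 h2 => simp only [tmul_add, map_add, h1, h2]
    simp only [TensorProduct.mk_apply, e, hab]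
  have hi : Function.Injective (i.rTensor N) := by
    have hk : k.comp i = j := by
      ext b
      simp [i, j, k, ← IsScalarTower.algebraMap_apply]
    rw [← hk, LinearMap.rTensor_comp] at hj
    exact Function.Injective.of_comp (f := k.rTensor N) hj
  have key : (φ.lTensor C).comp (i.rTensor N) = (i.rTensor M).comp (φ.lTensor B) := by
    rw [LinearMap.lTensor_comp_rTensor, LinearMap.rTensor_comp_lTensor]
  intro a b hab
  apply hi
  apply h1
  rw [← LinearMap.comp_apply, ← LinearMap.comp_apply, key, LinearMap.comp_apply,
    LinearMap.comp_apply, hab]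

/-- If `k ∘ g` is faithfully flat and `g ∘ f` is flat then `f` is flat. -/
theorem ringHom_flat_of_comp {A B C D : Type*} [CommRing A] [CommRing B] [CommRing C] [CommRing D]
    {f : A →+* B} {g : B →+* C} {k : C →+* D} (hk : (k.comp g).FaithfullyFlat)
    (hgf : (g.comp f).Flat) : f.Flat := by
  algebraize [f, g, k, k.comp g, g.comp f, k.comp (g.comp f)]
  have : IsScalarTower A B D := IsScalarTower.of_algebraMap_eq fun _ ↦ rfl
  exact module_flat_of_tower A B C D

end Groth.Agent.Lib.DescAlg.Pure
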